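import Mathlib
import Cfsg.Agent.Lib.Classical.Dick.SLp
import Cfsg.Agent.Lib.Cl.Pres3

/-!
Generation of `SL₂(F)` by two root elements.
-/

set_option autoImplicit false
set_option linter.unusedSimpArgs false
set_option linter.unusedVariables false

namespace Cfsg.Agent.Lib.Classical.Dick

open Matrix
open scoped MatrixGroups
open Cfsg.Agent.Lib.KS2.SL2

variable {F : Type*} [Field F]

local notation "PP" => Matrix.ProjectiveSpecialLinearGroup (Fin 2) F

/-- A `p`-element normalising a Sylow `p`-subgroup lies in it. -/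
lemma mem_sylow_of_normalizer {G : Type*} [Group G] [Finite G] (p : ℕ) [Fact p.Prime] (Q : Sylow p G) (x : G)
    (hx : x ∈ Subgroup.normalizer ((Q : Subgroup G) : Set G)) (k : ℕ) (hk : x ^ p ^ k = 1) : x ∈ (Q : Subgroup G) := by
  have h1 : IsPGroup p (Subgroup.zpowers x) := by
    rw [IsPGroup.iff_card]
    rw [Nat.card_zpowers]
    obtain ⟨i, -, hi⟩ := (Nat.dvd_prime_pow (Fact.out : p.Prime)).mp (orderOf_dvd_of_pow_eq_one hk)
    exact ⟨i, hi⟩
  have h2 : Subgroup.zpowers x ≤ Subgroup.normalizer ((Q : Subgroup G) : Set G) := by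
    rw [Subgroup.zpowers_le]
    exact hx
  have h3 := IsPGroup.to_sup_of_normal_left' Q.isPGroup' h1 h2
  have h4 := Q.is_maximal' h3 le_sup_left
  rw [← h4]
  exact (le_sup_right : Subgroup.zpowers x ≤ _) (Subgroup.mem_zpowers x)

/-- The two Frobenius facts. -/
lemma pow_eq_of_gen [Finite F] (p : ℕ) [Fact p.Prime] [CharP F p] (l : F) (hgen : Subfield.closure ({l} : Set F) = ⊤)
    (k : ℕ) (h : l ^ p ^ k = l) (x : F) : x ^ p ^ k = x := by
  have hle : Subfield.closure ({l} : Set F) ≤ RingHom.eqLocusField (iterateFrobenius F p k) (RingHom.id F) := by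
    rw [Subfield.closure_le]
    intro y hy
    rw [Set.mem_singleton_iff] at hy
    rw [hy]
    change iterateFrobenius F p k l = l
    rw [iterateFrobenius_def]
    exact h
  have hx : x ∈ RingHom.eqLocusField (iterateFrobenius F p k) (RingHom.id F) := hle (by rw [hgen]; exact Subfield.mem_top x)
  have hx' : iterateFrobenius F p k x = x := hx
  rwa [iterateFrobenius_def] at hx'

lemma card_le_of_pow [Fintype F] (n : ℕ) (hn : 1 < n) (h : ∀ x : F, x ^ n = x) : Fintype.card F ≤ n := by
  classical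
  have hP0 : (Polynomial.X ^ n - Polynomial.X : Polynomial F) ≠ 0 := FiniteField.X_pow_card_sub_X_ne_zero F hn
  have hdeg : (Polynomial.X ^ n - Polynomial.X : Polynomial F).natDegree = n := FiniteField.X_pow_card_sub_X_natDegree_eq F hn
  have := Polynomial.card_le_degree_of_subset_roots (p := (Polynomial.X ^ n - Polynomial.X : Polynomial F))
    (Z := (Finset.univ : Finset F)) (by
      intro x _
      rw [Polynomial.mem_roots hP0]
      simp [h x])
  rwa [hdeg, Finset.card_univ] at this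

lemma natCast_surjective_of_card [Fintype F] (p : ℕ) [Fact p.Prime] [CharP F p] (hq : Fintype.card F = p) (x : F) :
    ∃ n : ℕ, (n : F) = x := by
  have hinj : Function.Injective (ZMod.castHom (dvd_refl p) F) := (ZMod.castHom (dvd_refl p) F).injective
  have hbij : Function.Bijective (ZMod.castHom (dvd_refl p) F) := by
    rw [Fintype.bijective_iff_injective_and_card]
    exact ⟨hinj, by rw [ZMod.card, hq]⟩
  obtain ⟨c, rfl⟩ := hbij.2 x
  refine ⟨c.val, ?_⟩
  simp

/-- Over the prime field two root elements generate. -/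
lemma top_of_prime_field [Fintype F] (p : ℕ) [Fact p.Prime] [CharP F p] (hq : Fintype.card F = p) (l : F) (hl : l ≠ 0)
    (L : Subgroup SL(2, F)) (h1 : ll 1 ∈ L) (h2 : uu l ∈ L) : L = ⊤ := by
  rw [eq_top_iff]
  intro A _
  apply mem_of_uu_ll L
  · intro a
    obtain ⟨n, hn⟩ := natCast_surjective_of_card p hq (a / l)
    have : uu a = uu l ^ n := by
      rw [uu_pow, hn]
      congr 1
      field_simp
    rw [this]
    exact L.pow_mem h2 n
  · intro a
    obtain ⟨n, hn⟩ := natCast_surjective_of_card p hq a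
    have : ll a = ll 1 ^ n := by
      rw [ll_pow, hn, mul_one]
    rw [this]
    exact L.pow_mem h1 n

/-- A subgroup mapping onto `PSL₂` is everything. -/
lemma lift_top (h2 : (2 : F) ≠ 0) (L : Subgroup SL(2, F)) (hM : L.map (pi (F := F)) = ⊤) : L = ⊤ := by
  have hw : (pi (wel F) : PP) ∈ L.map (pi (F := F)) := by rw [hM]; exact Subgroup.mem_top _
  obtain ⟨x, hx, e⟩ := hw
  obtain ⟨ε, hε, e2⟩ := (pi_eq_iff (wel F) x).mp e.symm
  have hm : (mone : SL(2, F)) ∈ L := by
    have : x * x = mone := by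
      rw [e2]
      apply ext4 <;> simp [mul00, mul01, mul10, mul11, hε] <;> linear_combination hε
    rw [← this]
    exact L.mul_mem hx hx
  rw [eq_top_iff]
  intro g _
  have hg : (pi g : PP) ∈ L.map (pi (F := F)) := by rw [hM]; exact Subgroup.mem_top _
  obtain ⟨y, hy, e⟩ := hg
  obtain ⟨δ, hδ, e3⟩ := (pi_eq_iff y g).mp e
  have hδ' : (δ - 1) * (δ + 1) = 0 := by linear_combination hδ
  rcases mul_eq_zero.mp hδ' with h | h
  · have h1 : δ = 1 := by linear_combination h
    have : g = y := by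
      rw [e3]
      apply ext4 <;> simp [mul00, mul01, mul10, mul11, h1]
    rw [this]
    exact hy
  · have h1 : δ = -1 := by linear_combination h
    have : g = mone * y := by
      rw [e3]
      apply ext4 <;> simp [mul00, mul01, mul10, mul11, h1, mone]
    rw [this]
    exact L.mul_mem hm hy

section traces

/-- The coefficient of `x` in a scalar expression in `x` vanishes. -/
lemma coeff_zero_of_scalar (x : SL(2, F)) (hx : ¬ IsScalar x) (c d : F) (y : SL(2, F)) (hy : IsScalar y)
    (h : (y : Matrix (Fin 2) (Fin 2) F) = c • (x : Matrix (Fin 2) (Fin 2) F) - d • (1 : Matrix (Fin 2) (Fin 2) F)) :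
    c = 0 := by
  by_contra hc
  apply hx
  obtain ⟨h01, h10, h3⟩ := hy
  rw [h] at h01 h10 h3
  simp at h01 h10 h3
  exact ⟨h01.resolve_left hc, h10.resolve_left hc, h3.resolve_right hc⟩

lemma tr_of_pow3 (x : SL(2, F)) (hx : ¬ IsScalar x) (h : (pi x : PP) ^ 3 = 1) : (tr x) ^ 2 = 1 := by
  have hs : IsScalar (x ^ 3) := by
    rw [← pi_eq_one_iff, map_pow]
    exact h
  have := coeff_zero_of_scalar x hx _ _ (x ^ 3) hs (sl2_pow3 x)
  linear_combination this

lemma tr_of_pow5 (x : SL(2, F)) (hx : ¬ IsScalar x) (h : (pi x : PP) ^ 5 = 1) :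
    (tr x) ^ 4 - 3 * (tr x) ^ 2 + 1 = 0 := by
  have hs : IsScalar (x ^ 5) := by
    rw [← pi_eq_one_iff, map_pow]
    exact h
  exact coeff_zero_of_scalar x hx _ _ (x ^ 5) hs (sl2_pow5 x)

lemma tr_of_pow2 (x : SL(2, F)) (hx : ¬ IsScalar x) (h : (pi x : PP) ^ 2 = 1) : tr x = 0 :=
  tr_zero_of_inv x hx h

lemma tr_of_pow4 (x : SL(2, F)) (hx : ¬ IsScalar x) (h : (pi x : PP) ^ 4 = 1) : tr x = 0 ∨ (tr x) ^ 2 = 2 := by
  have hc := sl2_cayley x
  have hxx : ((x * x : SL(2, F)) : Matrix (Fin 2) (Fin 2) F) =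
      (tr x) • (x : Matrix (Fin 2) (Fin 2) F) - (1 : F) • (1 : Matrix (Fin 2) (Fin 2) F) := by
    rw [one_smul]
    exact hc
  by_cases hs : IsScalar (x * x)
  · left
    exact coeff_zero_of_scalar x hx _ _ (x * x) hs hxx
  · right
    have h2 : (pi (x * x) : PP) ^ 2 = 1 := by
      rw [map_mul, ← sq, ← pow_mul]
      exact h
    have h3 := tr_zero_of_inv (x * x) hs h2
    have h4 : tr (x * x) = (tr x) ^ 2 - 2 := by
      have hd := det_rel x
      simp only [tr, mul00, mul11]
      linear_combination -2 * hd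
    rw [h4] at h3
    linear_combination h3

end traces

section main

lemma prime_eq_three_of_dvd {p : ℕ} (hpp : p.Prime) (hp : p ≠ 2) (h : p ∣ 24) : p = 3 := by
  have h' : p ∣ 2 ^ 3 * 3 := by norm_num; exact h
  rcases (Nat.Prime.dvd_mul hpp).mp h' with h1 | h1
  · exact absurd ((Nat.prime_dvd_prime_iff_eq hpp Nat.prime_two).mp (hpp.dvd_of_dvd_pow h1)) hp
  · exact (Nat.prime_dvd_prime_iff_eq hpp Nat.prime_three).mp h1

lemma prime_eq_three_or_five_of_dvd {p : ℕ} (hpp : p.Prime) (hp : p ≠ 2) (h : p ∣ 60) : p = 3 ∨ p = 5 := by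
  have h' : p ∣ 2 ^ 2 * 3 * 5 := by norm_num; exact h
  rcases (Nat.Prime.dvd_mul hpp).mp h' with h1 | h1
  · rcases (Nat.Prime.dvd_mul hpp).mp h1 with h2 | h2
    · exact absurd ((Nat.prime_dvd_prime_iff_eq hpp Nat.prime_two).mp (hpp.dvd_of_dvd_pow h2)) hp
    · exact Or.inl ((Nat.prime_dvd_prime_iff_eq hpp Nat.prime_three).mp h2)
  · exact Or.inr ((Nat.prime_dvd_prime_iff_eq hpp Nat.prime_five).mp h1)

lemma char3_aux (l t : F) (h30 : (3 : F) = 0) (ht : t = 2 + l ∨ t = 2 - l) (h : t = 0 ∨ t ^ 2 = 1) : l ^ 3 = l := by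
  have h3 : t ^ 3 = t := by
    rcases h with h | h
    · rw [h]; ring
    · linear_combination t * h
  rcases ht with rfl | rfl
  · linear_combination h3 - (2 + 4 * l + 2 * l ^ 2) * h30
  · linear_combination -h3 + (2 - 4 * l + 2 * l ^ 2) * h30

lemma char5_aux (l t : F) (h50 : (5 : F) = 0) (ht : t = 2 + l) (h : t = 0 ∨ t ^ 2 = 1 ∨ t ^ 4 - 3 * t ^ 2 + 1 = 0) :
    l ^ 5 = l := by
  have h5 : t ^ 5 = t := by
    rcases h with h | h | h
    · rw [h]; ring
    · linear_combination t * (t ^ 2 + 1) * h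
    · have h1 : (t ^ 2 + 1) ^ 2 = 0 := by linear_combination h + t ^ 2 * h50
      have h2 : t ^ 2 + 1 = 0 := by simpa using h1
      linear_combination t * (t ^ 2 - 1) * h2
  subst ht
  linear_combination h5 - (6 + 16 * l + 16 * l ^ 2 + 8 * l ^ 3 + 2 * l ^ 4) * h50

variable [Fintype F]

/-- `x₁ = ll 1 · uu l`. -/
lemma tr_ll_uu (a b : F) : tr (ll a * uu b) = 2 + a * b := by
  simp [tr, mul00, mul11]
  ring

lemma ll_uu_not_scalar (a b : F) (ha : a ≠ 0) : ¬ IsScalar (ll a * uu b) := by
  rintro ⟨-, h, -⟩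
  simp [mul10] at h
  exact ha h

lemma pi_ll_ne (a : F) (ha : a ≠ 0) : (pi (ll a) : PP) ≠ 1 := by
  rw [Ne, pi_eq_one_iff]
  rintro ⟨-, h, -⟩
  exact ha h

lemma not_cyc_dih (p : ℕ) [Fact p.Prime] [CharP F p] (hp : p ≠ 2) (M : Subgroup PP) (hdvd : p ∣ Nat.card M) (k : ℕ)
    (hk : k ∣ (Fintype.card F + 1) / Nat.gcd 2 (Fintype.card F - 1) ∨ k ∣ (Fintype.card F - 1) / Nat.gcd 2 (Fintype.card F - 1))
    (hc : (IsCyclic M ∧ Nat.card M = k) ∨ Nonempty (M ≃* DihedralGroup k)) : False := by
  have hpp : p.Prime := Fact.out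
  obtain ⟨n, -, hq⟩ := FiniteField.card F p
  have hq3 : p ∣ Fintype.card F := by
    rw [hq]
    exact dvd_pow_self p n.ne_zero
  have hk3 : p ∣ k := by
    rcases hc with ⟨-, hc⟩ | ⟨⟨i⟩⟩
    · rwa [hc] at hdvd
    · rw [Nat.card_congr i.toEquiv, DihedralGroup.nat_card] at hdvd
      rcases (Nat.Prime.dvd_mul hpp).mp hdvd with h | h
      · exact absurd ((Nat.prime_dvd_prime_iff_eq hpp Nat.prime_two).mp h) hp
      · exact h
  have hp1 : ¬ p ∣ 1 := hpp.one_lt.ne' ∘ Nat.dvd_one.mp
  rcases hk with hk | hk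
  · have hq1 : 1 ≤ Fintype.card F := Fintype.card_pos
    have hg : Nat.gcd 2 (Fintype.card F - 1) ∣ Fintype.card F + 1 := by
      have e : Fintype.card F + 1 = (Fintype.card F - 1) + 2 := by omega
      rw [e]
      exact Nat.dvd_add (Nat.gcd_dvd_right _ _) (Nat.gcd_dvd_left _ _)
    have h1 : p ∣ Fintype.card F + 1 := (hk3.trans hk).trans (Nat.div_dvd_of_dvd hg)
    exact hp1 ((Nat.dvd_add_right hq3).mp h1)
  · have h1 : p ∣ Fintype.card F - 1 := (hk3.trans hk).trans (Nat.div_dvd_of_dvd (Nat.gcd_dvd_right _ _))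
    have hq1 : 1 ≤ Fintype.card F := Fintype.card_pos
    have h2 : p ∣ (Fintype.card F - 1) + 1 := by
      rwa [Nat.sub_add_cancel hq1]
    exact hp1 ((Nat.dvd_add_right h1).mp h2)

/-- The subgroup generated by two root elements is everything, apart from the exception. -/
theorem top_of_not_special (h2 : (2 : F) ≠ 0) (l : F) (hl : l ≠ 0) (hgen : Subfield.closure ({l} : Set F) = ⊤)
    (hns : ¬ (Fintype.card F = 9 ∧ l ^ 2 = -1)) (L : Subgroup SL(2, F)) (h1 : ll 1 ∈ L) (hu : uu l ∈ L) : L = ⊤ := by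
  classical
  obtain ⟨p, hchar⟩ := CharP.exists F
  have hpp : p.Prime := CharP.char_is_prime F p
  haveI : Fact p.Prime := ⟨hpp⟩
  have hp : p ≠ 2 := by
    rintro rfl
    exact h2 (by exact_mod_cast CharP.cast_eq_zero F 2)
  obtain ⟨n, -, hq⟩ := FiniteField.card F p
  by_cases hpow : l ^ p = l
  · have hall : ∀ x : F, x ^ p ^ 1 = x := pow_eq_of_gen p l hgen 1 (by rwa [pow_one])
    have hc := card_le_of_pow (F := F) (p ^ 1) (by rw [pow_one]; exact hpp.one_lt) hall
    have hc' : Fintype.card F = p := by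
      rw [hq] at hc ⊢
      have hn : (n : ℕ) ≤ 1 := (Nat.pow_le_pow_iff_right hpp.one_lt).mp hc
      have : (n : ℕ) = 1 := by have := n.pos; omega
      rw [this, pow_one]
    exact top_of_prime_field p hc' l hl L h1 hu
  set M := L.map (pi (F := F)) with hM
  have hlM : (pi (ll 1) : PP) ∈ M := ⟨_, h1, rfl⟩
  have huM : (pi (uu l) : PP) ∈ M := ⟨_, hu, rfl⟩
  have hu' : uu (-l) ∈ L := by
    have : uu (-l) = (uu l)⁻¹ := by
      apply eq_inv_of_mul_eq_one_right
      rw [← uu_add, add_neg_cancel, uu_zero]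
    rw [this]
    exact L.inv_mem hu
  have hx1 : (pi (ll 1 * uu l) : PP) ∈ M := ⟨_, L.mul_mem h1 hu, rfl⟩
  have hx2 : (pi (ll 1 * uu (-l)) : PP) ∈ M := ⟨_, L.mul_mem h1 hu', rfl⟩
  have ht1 : tr (ll 1 * uu l) = 2 + l := by rw [tr_ll_uu, one_mul]
  have ht2 : tr (ll 1 * uu (-l)) = 2 - l := by rw [tr_ll_uu]; ring
  have hns1 := ll_uu_not_scalar (1 : F) l one_ne_zero
  have hns2 := ll_uu_not_scalar (1 : F) (-l) one_ne_zero
  have h8 : (8 : F) * l ≠ 0 := by
    apply mul_ne_zero _ hl
    have : (8 : F) = 2 * 2 * 2 := by norm_num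
    rw [this]
    exact mul_ne_zero (mul_ne_zero h2 h2) h2
  have hdvd : p ∣ Nat.card M := by
    have h5 : (pi (ll 1) : PP) ^ p = 1 := by
      rw [← map_pow, ll_pow, CharP.cast_eq_zero, zero_mul, ll_zero, map_one]
    have h6 : orderOf (⟨_, hlM⟩ : M) = p := by
      rw [Subgroup.orderOf_mk]
      exact orderOf_eq_prime h5 (pi_ll_ne _ one_ne_zero)
    rw [← h6]
    exact orderOf_dvd_natCard _
  rcases dickson_main rfl p M with ⟨k, hk, hc⟩ | ⟨Q, hQ⟩ | ⟨⟨i⟩⟩ | ⟨⟨i⟩⟩ | ⟨⟨i⟩⟩ | ⟨S, -, -, hG⟩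
  · exact (not_cyc_dih p hp M hdvd k hk hc).elim
  · -- Borel
    exfalso
    have hQ1 : (pi (ll 1) : PP) ∈ (Q : Subgroup PP) := by
      refine mem_sylow_of_normalizer p Q _ (hQ hlM) 1 ?_
      rw [pow_one, ← map_pow, ll_pow, CharP.cast_eq_zero, zero_mul, ll_zero, map_one]
    have hQ2 : ∀ c : F, uu c ∈ L → (pi (uu c) : PP) ∈ (Q : Subgroup PP) := by
      intro c hc
      refine mem_sylow_of_normalizer p Q _ (hQ ⟨_, hc, rfl⟩) 1 ?_
      rw [pow_one, ← map_pow, uu_pow, CharP.cast_eq_zero, zero_mul, uu_zero, map_one]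
    have hsq : ∀ x : SL(2, F), (pi x : PP) ∈ (Q : Subgroup PP) → ¬ IsScalar x → (tr x) ^ 2 = 4 := by
      intro x hx hxs
      obtain ⟨k, hk⟩ := Q.isPGroup' ⟨_, hx⟩
      have hk' : (pi x : PP) ^ p ^ k = 1 := congrArg Subtype.val hk
      have := tr_sq_of_pow p (⊤ : Subgroup PP) ⟨pi x, Subgroup.mem_top _⟩ (by
        intro h
        exact hxs ((pi_eq_one_iff x).mp (congrArg Subtype.val h))) k (Subtype.ext hk')
      rw [← this]
      exact tr_sq_of_pi_eq (pi_lf _).symm
    have e1 := hsq _ (by rw [map_mul]; exact Subgroup.mul_mem _ hQ1 (hQ2 _ hu)) hns1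
    have e2 := hsq _ (by rw [map_mul]; exact Subgroup.mul_mem _ hQ1 (hQ2 _ hu')) hns2
    rw [ht1] at e1
    rw [ht2] at e2
    exact h8 (by linear_combination e1 - e2)
  · -- A₄
    exfalso
    have hcase : ∀ x : SL(2, F), (pi x : PP) ∈ M → ¬ IsScalar x → tr x = 0 ∨ (tr x) ^ 2 = 1 ∨ (tr x) ^ 2 = 2 := by
      intro x hxM hxs
      have e := order_A4 (i ⟨_, hxM⟩)
      rcases e with e | e
      · left
        rw [← map_pow, map_eq_one_iff i i.injective] at e
        exact tr_of_pow2 x hxs (congrArg Subtype.val e)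
      · right; left
        rw [← map_pow, map_eq_one_iff i i.injective] at e
        exact tr_of_pow3 x hxs (congrArg Subtype.val e)
    have hc : Nat.card M = 12 := by rw [Nat.card_congr i.toEquiv]; exact card_A4
    rw [hc] at hdvd
    have hp3 : p = 3 := prime_eq_three_of_dvd hpp hp (hdvd.trans (by norm_num))
    subst hp3
    have h30 : (3 : F) = 0 := by exact_mod_cast CharP.cast_eq_zero F 3
    have a1 : (2 + l) ^ 2 = 2 := by
      rcases hcase _ hx1 hns1 with h | h | h
      · rw [ht1] at h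
        exact absurd (char3_aux l _ h30 (Or.inl rfl) (Or.inl h)) hpow
      · rw [ht1] at h
        exact absurd (char3_aux l _ h30 (Or.inl rfl) (Or.inr h)) hpow
      · rwa [ht1] at h
    have a2 : (2 - l) ^ 2 = 2 := by
      rcases hcase _ hx2 hns2 with h | h | h
      · rw [ht2] at h
        exact absurd (char3_aux l _ h30 (Or.inr rfl) (Or.inl h)) hpow
      · rw [ht2] at h
        exact absurd (char3_aux l _ h30 (Or.inr rfl) (Or.inr h)) hpow
      · rwa [ht2] at h
    exact h8 (by linear_combination a1 - a2)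
  · -- S₄
    exfalso
    have hcase : ∀ x : SL(2, F), (pi x : PP) ∈ M → ¬ IsScalar x → tr x = 0 ∨ (tr x) ^ 2 = 1 ∨ (tr x) ^ 2 = 2 := by
      intro x hxM hxs
      have e := order_S4 (i ⟨_, hxM⟩)
      rcases e with e | e | e
      · left
        rw [← map_pow, map_eq_one_iff i i.injective] at e
        exact tr_of_pow2 x hxs (congrArg Subtype.val e)
      · right; left
        rw [← map_pow, map_eq_one_iff i i.injective] at e
        exact tr_of_pow3 x hxs (congrArg Subtype.val e)
      · rw [← map_pow, map_eq_one_iff i i.injective] at e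
        rcases tr_of_pow4 x hxs (congrArg Subtype.val e) with h | h
        · exact Or.inl h
        · exact Or.inr (Or.inr h)
    have hc : Nat.card M = 24 := by rw [Nat.card_congr i.toEquiv]; exact card_S4
    rw [hc] at hdvd
    have hp3 : p = 3 := prime_eq_three_of_dvd hpp hp (hdvd)
    subst hp3
    have h30 : (3 : F) = 0 := by exact_mod_cast CharP.cast_eq_zero F 3
    have a1 : (2 + l) ^ 2 = 2 := by
      rcases hcase _ hx1 hns1 with h | h | h
      · rw [ht1] at h
        exact absurd (char3_aux l _ h30 (Or.inl rfl) (Or.inl h)) hpow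
      · rw [ht1] at h
        exact absurd (char3_aux l _ h30 (Or.inl rfl) (Or.inr h)) hpow
      · rwa [ht1] at h
    have a2 : (2 - l) ^ 2 = 2 := by
      rcases hcase _ hx2 hns2 with h | h | h
      · rw [ht2] at h
        exact absurd (char3_aux l _ h30 (Or.inr rfl) (Or.inl h)) hpow
      · rw [ht2] at h
        exact absurd (char3_aux l _ h30 (Or.inr rfl) (Or.inr h)) hpow
      · rwa [ht2] at h
    exact h8 (by linear_combination a1 - a2)
  · -- A₅
    exfalso
    have hcase : ∀ x : SL(2, F), (pi x : PP) ∈ M → ¬ IsScalar x → tr x = 0 ∨ (tr x) ^ 2 = 1 ∨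
        (tr x) ^ 4 - 3 * (tr x) ^ 2 + 1 = 0 := by
      intro x hxM hxs
      have e := order_A5 (i ⟨_, hxM⟩)
      rcases e with e | e | e
      · left
        rw [← map_pow, map_eq_one_iff i i.injective] at e
        exact tr_of_pow2 x hxs (congrArg Subtype.val e)
      · right; left
        rw [← map_pow, map_eq_one_iff i i.injective] at e
        exact tr_of_pow3 x hxs (congrArg Subtype.val e)
      · right; right
        rw [← map_pow, map_eq_one_iff i i.injective] at e
        exact tr_of_pow5 x hxs (congrArg Subtype.val e)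
    have hc : Nat.card M = 60 := by rw [Nat.card_congr i.toEquiv]; exact card_A5
    rw [hc] at hdvd
    rcases prime_eq_three_or_five_of_dvd hpp hp hdvd with hp3 | hp5
    · subst hp3
      have h30 : (3 : F) = 0 := by exact_mod_cast CharP.cast_eq_zero F 3
      have a1 : (2 + l) ^ 4 + 1 = 0 := by
        rcases hcase _ hx1 hns1 with h | h | h
        · rw [ht1] at h
          exact absurd (char3_aux l _ h30 (Or.inl rfl) (Or.inl h)) hpow
        · rw [ht1] at h
          exact absurd (char3_aux l _ h30 (Or.inl rfl) (Or.inr h)) hpow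
        · rw [ht1] at h
          linear_combination h + (2 + l) ^ 2 * h30
      have a2 : (2 - l) ^ 4 + 1 = 0 := by
        rcases hcase _ hx2 hns2 with h | h | h
        · rw [ht2] at h
          exact absurd (char3_aux l _ h30 (Or.inr rfl) (Or.inl h)) hpow
        · rw [ht2] at h
          exact absurd (char3_aux l _ h30 (Or.inr rfl) (Or.inr h)) hpow
        · rw [ht2] at h
          linear_combination h + (2 - l) ^ 2 * h30
      have a3 : ((8 : F) * l) * (2 * (l ^ 2 + 4)) = 0 := by linear_combination a1 - a2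
      have a4 : l ^ 2 + 4 = 0 := by
        rcases mul_eq_zero.mp a3 with h | h
        · exact absurd h h8
        · rcases mul_eq_zero.mp h with h | h
          · exact absurd h h2
          · exact h
      have a5 : l ^ 2 = -1 := by linear_combination a4 - h30
      have a6 : l ^ 3 ^ 2 = l := by
        norm_num
        have : l ^ 9 = l * (l ^ 2) ^ 4 := by ring
        rw [this, a5]
        ring
      have hall : ∀ x : F, x ^ 3 ^ 2 = x := pow_eq_of_gen 3 l hgen 2 a6
      have hcc := card_le_of_pow (F := F) (3 ^ 2) (by norm_num) hall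
      rw [hq] at hcc
      have hn : (n : ℕ) ≤ 2 := (Nat.pow_le_pow_iff_right (by norm_num)).mp hcc
      have hn0 := n.pos
      have hn12 : (n : ℕ) = 1 ∨ (n : ℕ) = 2 := by omega
      rcases hn12 with e | e
      · apply hpow
        have := FiniteField.pow_card l
        rwa [hq, e, pow_one] at this
      · apply hns
        exact ⟨by rw [hq, e]; norm_num, a5⟩
    · subst hp5
      have h50 : (5 : F) = 0 := by exact_mod_cast CharP.cast_eq_zero F 5
      apply hpow
      refine char5_aux l _ h50 rfl ?_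
      rw [← ht1]
      exact hcase _ hx1 hns1
  · -- subfield case
    obtain ⟨E, f, hs, -, -, -, ht, hiso⟩ := hG
    have he1 := ht _ hx1
    have he2 := ht _ hx2
    rw [ht1] at he1
    rw [ht2] at he2
    have he3 : (8 : F) * l ∈ E := by
      have : (8 : F) * l = (2 + l) ^ 2 - (2 - l) ^ 2 := by ring
      rw [this]
      exact E.sub_mem he1 he2
    have he4 : l ∈ E := by
      have h81 : (8 : F) ≠ 0 := left_ne_zero_of_mul h8
      have h82 : (8 : F) ∈ E := by
        have : (8 : F) = ((8 : ℕ) : F) := by norm_num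
        rw [this]
        exact natCast_mem E 8
      have := E.mul_mem (E.inv_mem h82) he3
      rwa [← mul_assoc, inv_mul_cancel₀ h81, one_mul] at this
    have hE : E = ⊤ := by
      rw [eq_top_iff, ← hgen, Subfield.closure_le]
      intro y hy
      rw [Set.mem_singleton_iff] at hy
      rw [hy]
      exact he4
    subst hE
    apply lift_top h2
    apply Subgroup.eq_top_of_card_eq
    have hPP := card_PSL2' F
    have hr : Nat.card (Roots1 F) = 2 := card_roots1_odd (by
      intro h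
      apply h2
      have : CharP F 2 := by rw [← h]; exact ringChar.charP F
      exact_mod_cast CharP.cast_eq_zero F 2)
    rw [hr] at hPP
    rcases hiso with ⟨⟨j⟩⟩ | ⟨⟨j⟩⟩
    · exact Nat.card_congr (j.trans (Cfsg.Agent.Lib.Classical.RC.pslCongr Subfield.topEquiv)).toEquiv
    · exfalso
      have h7 := card_PGL2 F
      have h9 : Nat.card (Matrix.ProjGenLinGroup (Fin 2) (⊤ : Subfield F)) = Nat.card (Matrix.ProjGenLinGroup (Fin 2) F) :=
        Nat.card_congr (QuotientGroup.congr _ _ (Cfsg.Agent.Lib.Classical.RC.glCongr Subfield.topEquiv)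
          (Cfsg.Agent.Lib.Classical.RC.map_center_eq _)).toEquiv
      have h10 := Nat.card_congr j.toEquiv
      rw [h9, h7] at h10
      have h11 := Subgroup.card_le_card_group M
      have h12 : 0 < Nat.card PP := Nat.card_pos
      omega

open Cfsg.Agent.Lib.Cl.Pres in
/-- Generators of `SL₂(5)`. -/
lemma eq_top_of_gens_SL25 (G : Subgroup SL25) (h1 : slX ∈ G) (h2 : slY ∈ G) (h3 : slZ ∈ G) : G = ⊤ := by
  obtain ⟨e, e1, e2, e3⟩ := presSL_equiv
  have hle : Subgroup.closure (Set.range (PresentedGroup.of : Fin 3 → PresentedGroup relsSL)) ≤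
      G.comap e.toMonoidHom := by
    rw [Subgroup.closure_le]
    rintro _ ⟨i, rfl⟩
    change e (PresentedGroup.of i) ∈ G
    fin_cases i
    · change e (PresentedGroup.of 0) ∈ G
      rw [e1]; exact h1
    · change e (PresentedGroup.of 1) ∈ G
      rw [e2]; exact h2
    · change e (PresentedGroup.of 2) ∈ G
      rw [e3]; exact h3
  rw [PresentedGroup.closure_range_of] at hle
  rw [eq_top_iff]
  intro a _
  have := hle (Subgroup.mem_top (e.symm a))
  simpa using this

open Cfsg.Agent.Lib.Cl.Pres in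
/-- The exceptional case: a copy of `SL₂(5)` in `SL₂(9)`. -/
theorem card_special (h9 : Fintype.card F = 9) (l : F) (hl : l ^ 2 = -1) (L : Subgroup SL(2, F)) (h1 : ll 1 ∈ L)
    (hu : uu l ∈ L) (hmin : ∀ M : Subgroup SL(2, F), ll 1 ∈ M → uu l ∈ M → L ≤ M) : Nat.card L = 120 := by
  classical
  have h30 : (3 : F) = 0 := by
    have h := FiniteField.cast_card_eq_zero F
    rw [h9] at h
    have e : (3 : F) * 3 = 0 := by
      have : (3 : F) * 3 = ((9 : ℕ) : F) := by norm_num
      rw [this, h]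
    simpa using e
  have h2 : (2 : F) ≠ 0 := by
    intro h
    have : (1 : F) = 0 := by linear_combination h30 - h
    exact one_ne_zero this
  set W : SL(2, F) := ll 1 * uu l with hW
  set Y : SL(2, F) := W * W with hY
  have hX3 : (ll (1 : F)) ^ 3 = 1 := by
    rw [ll_pow]
    have : ((3 : ℕ) : F) * 1 = 0 := by
      push_cast
      rw [h30, zero_mul]
    rw [this, ll_zero]
  have htW : tr W = 2 + l := by rw [hW, tr_ll_uu, one_mul]
  have hW5 : W ^ 5 = mone := by
    apply Subtype.ext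
    rw [sl2_pow5, htW, mone_coe]
    have e1 : (2 + l) ^ 4 - 3 * (2 + l) ^ 2 + 1 = 0 := by
      linear_combination (l ^ 2 + 8 * l + 20) * hl + (4 * l - 5) * h30
    have e2 : (2 + l) ^ 3 - 2 * (2 + l) = 1 := by
      linear_combination (l + 6) * hl + (3 * l - 1) * h30
    rw [e1, e2]
    simp
  have hY5 : Y ^ 5 = 1 := by
    rw [hY, ← sq, ← pow_mul, mul_comm, pow_mul, hW5, sq, mone_mul_self]
  have hxy : (ll 1 * Y) ^ 2 = mone := by
    have ht : tr (ll 1 * Y) = 0 := by
      rw [hY, hW]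
      simp [tr, mul00, mul01, mul10, mul11]
      linear_combination 2 * hl + 2 * l * h30
    have hc := sl2_cayley (ll 1 * Y)
    rw [ht, zero_smul, zero_sub] at hc
    apply Subtype.ext
    rw [sq, mone_coe]
    exact hc
  obtain ⟨Φ, e1, e2, e3⟩ := exists_hom_SL25 (K := SL(2, F)) (ll 1) Y mone hX3 hY5 (by rw [sq, mone_mul_self])
    (mone_comm _) (mone_comm _) hxy
  have hmone : (mone : SL(2, F)) ∈ Φ.range := ⟨_, e3⟩
  have hWm : W = mone * Y ^ 3 := by
    have : Y ^ 3 = mone * W := by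
      rw [← hW5, hY, ← sq, ← pow_mul, ← pow_succ]
    rw [this, ← mul_assoc, mone_mul_self, one_mul]
  have hWR : W ∈ Φ.range := by
    rw [hWm]
    have hYR : Y ∈ Φ.range := ⟨_, e2⟩
    exact Φ.range.mul_mem hmone (Φ.range.pow_mem hYR 3)
  have huR : uu l ∈ Φ.range := by
    have : uu l = (ll 1)⁻¹ * W := by
      rw [hW, inv_mul_cancel_left]
    rw [this]
    have hXR : ll 1 ∈ Φ.range := ⟨_, e1⟩
    exact Φ.range.mul_mem (Φ.range.inv_mem hXR) hWR
  have hLR : L ≤ Φ.range := hmin _ ⟨_, e1⟩ huR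
  have hRL : Φ.range ≤ L := by
    rintro _ ⟨a, rfl⟩
    have hg : L.comap Φ = ⊤ := by
      apply eq_top_of_gens_SL25
      · change Φ slX ∈ L
        rw [e1]; exact h1
      · change Φ slY ∈ L
        rw [e2, hY, hW]
        exact L.mul_mem (L.mul_mem h1 hu) (L.mul_mem h1 hu)
      · change Φ slZ ∈ L
        rw [e3, ← hxy]
        apply L.pow_mem
        apply L.mul_mem h1
        rw [hY, hW]
        exact L.mul_mem (L.mul_mem h1 hu) (L.mul_mem h1 hu)
    have : a ∈ L.comap Φ := by rw [hg]; exact Subgroup.mem_top a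
    exact this
  have hLe : L = Φ.range := le_antisymm hLR hRL
  -- injectivity
  haveI : Fact (Nat.Prime 5) := ⟨by norm_num⟩
  have hcard : Fintype.card (ZMod 5) = 5 := ZMod.card 5
  haveI hs : IsSimpleGroup (Matrix.ProjectiveSpecialLinearGroup (Fin 2) (ZMod 5)) :=
    Matrix.ProjectiveSpecialLinearGroup.rank_two_simple (by rw [Nat.card_eq_fintype_card, hcard]; norm_num)
  let ψ : SL25 →* PP := (pi (F := F)).comp Φ
  have hscal : ∀ a : SL25, a ∈ Subgroup.center SL25 → a = 1 ∨ a = slZ := by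
    intro a ha
    have h1 := (isScalar_iff_center a).mpr ha
    rcases isScalar_cases a h1 with rfl | h
    · exact Or.inl rfl
    · right
      rw [h]
      apply Subtype.ext
      rw [mone_coe]
      ext i j
      fin_cases i <;> fin_cases j <;> simp [slZ]
  have hker : Subgroup.center SL25 ≤ ψ.ker := by
    intro a ha
    rw [MonoidHom.mem_ker]
    rcases hscal a ha with rfl | rfl
    · exact map_one _
    · change pi (Φ slZ) = 1
      rw [e3]
      exact (pi_eq_one_iff _).mpr isScalar_mone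
  let Ψ : Matrix.ProjectiveSpecialLinearGroup (Fin 2) (ZMod 5) →* PP := QuotientGroup.lift _ ψ hker
  have hΨ : ∀ a, Ψ (QuotientGroup.mk a) = ψ a := fun a => rfl
  have hinj : Function.Injective Ψ := by
    rw [← MonoidHom.ker_eq_bot_iff]
    rcases hs.eq_bot_or_eq_top_of_normal Ψ.ker inferInstance with h | h
    · exact h
    · exfalso
      apply pi_ll_ne (1 : F) one_ne_zero
      rw [← e1]
      change ψ slX = 1
      rw [← hΨ, ← MonoidHom.mem_ker, h]
      exact Subgroup.mem_top _
  have hΦ : Function.Injective Φ := by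
    rw [injective_iff_map_eq_one]
    intro a ha
    have h3 : Ψ (QuotientGroup.mk a) = Ψ 1 := by
      rw [hΨ, map_one]
      change pi (Φ a) = 1
      rw [ha, map_one]
    have h4 := hinj h3
    have h5 : a ∈ Subgroup.center SL25 := (QuotientGroup.eq_one_iff a).mp h4
    rcases hscal a h5 with h | h
    · exact h
    · exfalso
      rw [h, e3] at ha
      exact mone_ne_one h2 ha
  rw [hLe, ← Nat.card_congr (MonoidHom.ofInjective hΦ).toEquiv, Cfsg.Agent.Lib.KS2.SL2.card_SL2, hcard]
  norm_num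

lemma ll_coe (a : F) : ((ll a : SL(2, F)) : Matrix (Fin 2) (Fin 2) F) = !![1, 0; a, 1] := by
  ext i j
  fin_cases i <;> fin_cases j <;> rfl

lemma uu_coe (a : F) : ((uu a : SL(2, F)) : Matrix (Fin 2) (Fin 2) F) = !![1, a; 0, 1] := by
  ext i j
  fin_cases i <;> fin_cases j <;> rfl

/-- Generation of `SL₂(F)` by two root elements. -/
theorem closure_root_elements (h2 : (2 : F) ≠ 0) (l : F) (hl : l ≠ 0) (hgen : Subfield.closure ({l} : Set F) = ⊤) :
    (Subgroup.closure {g : Matrix.SpecialLinearGroup (Fin 2) F | (g : Matrix (Fin 2) (Fin 2) F) = !![1, 0; 1, 1] ∨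
        (g : Matrix (Fin 2) (Fin 2) F) = !![1, l; 0, 1]} = ⊤ ∧ ¬ (Fintype.card F = 9 ∧ l ^ 2 = -1)) ∨
    (Fintype.card F = 9 ∧ l ^ 2 = -1 ∧ Nat.card ↥(Subgroup.closure {g : Matrix.SpecialLinearGroup (Fin 2) F |
        (g : Matrix (Fin 2) (Fin 2) F) = !![1, 0; 1, 1] ∨ (g : Matrix (Fin 2) (Fin 2) F) = !![1, l; 0, 1]}) = 120) := by
  set L := Subgroup.closure {g : Matrix.SpecialLinearGroup (Fin 2) F | (g : Matrix (Fin 2) (Fin 2) F) = !![1, 0; 1, 1] ∨
        (g : Matrix (Fin 2) (Fin 2) F) = !![1, l; 0, 1]} with hL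
  have h1 : ll 1 ∈ L := Subgroup.subset_closure (Or.inl (ll_coe 1))
  have hu : uu l ∈ L := Subgroup.subset_closure (Or.inr (uu_coe l))
  have hmin : ∀ M : Subgroup SL(2, F), ll 1 ∈ M → uu l ∈ M → L ≤ M := by
    intro M hM1 hM2
    rw [hL, Subgroup.closure_le]
    rintro g (hg | hg)
    · have : g = ll 1 := Subtype.ext (by rw [hg, ll_coe])
      rw [this]
      exact hM1
    · have : g = uu l := Subtype.ext (by rw [hg, uu_coe])
      rw [this]
      exact hM2
  by_cases hns : Fintype.card F = 9 ∧ l ^ 2 = -1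
  · exact Or.inr ⟨hns.1, hns.2, card_special hns.1 l hns.2 L h1 hu hmin⟩
  · exact Or.inl ⟨top_of_not_special h2 l hl hgen hns L h1 hu, hns⟩

end main

end Cfsg.Agent.Lib.Classical.Dick
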