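import Mathlib
import Cfsg.Agent.Lib.Classical.Dick.Coat3
import Cfsg.Agent.Lib.Classical.PSL2Klein2

/-!
Rigidity: a subgroup of `PSL₂(F)` containing a standard Klein four-group whose traces lie in a
subfield `E` is contained in `PSL₂(E)`.
-/

set_option autoImplicit false
set_option linter.unusedSimpArgs false
set_option linter.unusedVariables false

namespace Cfsg.Agent.Lib.Classical.Dick

open Matrix
open scoped MatrixGroups
open Cfsg.Agent.Lib.KS2.SL2

variable {F : Type*} [Field F]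

local notation "PP" => Matrix.ProjectiveSpecialLinearGroup (Fin 2) F

/-! ### Conjugation by `GL₂` -/

/-- Conjugation by an element of `GL₂` as an automorphism of `SL₂`. -/
def glConj (u : GL (Fin 2) F) : SL(2, F) ≃* SL(2, F) where
  toFun := P2.conjSL u
  invFun := P2.conjSL u⁻¹
  left_inv g := by
    apply Subtype.ext
    change (u⁻¹ : GL (Fin 2) F).1 * (u.1 * g.1 * (u⁻¹ : GL (Fin 2) F).1) * ((u⁻¹)⁻¹ : GL (Fin 2) F).1 = g.1
    rw [inv_inv]
    have e1 : (u⁻¹ : GL (Fin 2) F).1 * u.1 = 1 := by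
      change ((u⁻¹ * u : GL (Fin 2) F)).1 = 1
      rw [inv_mul_cancel]
      rfl
    calc (u⁻¹ : GL (Fin 2) F).1 * (u.1 * g.1 * (u⁻¹ : GL (Fin 2) F).1) * u.1
        = ((u⁻¹ : GL (Fin 2) F).1 * u.1) * g.1 * ((u⁻¹ : GL (Fin 2) F).1 * u.1) := by
          simp only [Matrix.mul_assoc]
      _ = g.1 := by rw [e1, Matrix.one_mul, Matrix.mul_one]
  right_inv g := by
    apply Subtype.ext
    change u.1 * ((u⁻¹ : GL (Fin 2) F).1 * g.1 * ((u⁻¹)⁻¹ : GL (Fin 2) F).1) * (u⁻¹ : GL (Fin 2) F).1 = g.1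
    rw [inv_inv]
    have e1 : u.1 * (u⁻¹ : GL (Fin 2) F).1 = 1 := by
      change ((u * u⁻¹ : GL (Fin 2) F)).1 = 1
      rw [mul_inv_cancel]
      rfl
    calc u.1 * ((u⁻¹ : GL (Fin 2) F).1 * g.1 * u.1) * (u⁻¹ : GL (Fin 2) F).1
        = (u.1 * (u⁻¹ : GL (Fin 2) F).1) * g.1 * (u.1 * (u⁻¹ : GL (Fin 2) F).1) := by
          simp only [Matrix.mul_assoc]
      _ = g.1 := by rw [e1, Matrix.one_mul, Matrix.mul_one]
  map_mul' := P2.conjSL_mul u

lemma glConj_coe (u : GL (Fin 2) F) (x : SL(2, F)) :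
    ((glConj u x : SL(2, F)) : Matrix (Fin 2) (Fin 2) F) = u.1 * x.1 * (u⁻¹ : GL (Fin 2) F).1 := rfl

lemma tr_eq_trace (x : SL(2, F)) : tr x = Matrix.trace (x : Matrix (Fin 2) (Fin 2) F) := by
  rw [Matrix.trace_fin_two]
  rfl

lemma tr_glConj (u : GL (Fin 2) F) (x : SL(2, F)) : tr (glConj u x) = tr x := by
  rw [tr_eq_trace, tr_eq_trace, glConj_coe, Matrix.trace_mul_comm, ← Matrix.mul_assoc]
  have e1 : (u⁻¹ : GL (Fin 2) F).1 * u.1 = 1 := by
    change ((u⁻¹ * u : GL (Fin 2) F)).1 = 1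
    rw [inv_mul_cancel]
    rfl
  rw [e1, Matrix.one_mul]

lemma glConj_of_Rr {u : GL (Fin 2) F} {g h : SL(2, F)} (hr : P2.Rr u g h) : glConj u g = h := by
  apply Subtype.ext
  rw [glConj_coe]
  have h1 : u.1 * g.1 = h.1 * u.1 := hr
  rw [h1]
  have e1 : u.1 * (u⁻¹ : GL (Fin 2) F).1 = 1 := by
    change ((u * u⁻¹ : GL (Fin 2) F)).1 = 1
    rw [mul_inv_cancel]
    rfl
  rw [Matrix.mul_assoc, e1, Matrix.mul_one]

lemma pi_eq_mk (x : SL(2, F)) : (pi x : PP) = QuotientGroup.mk x := rfl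

variable [Fintype F]

/-- All Klein four-groups of `PSL₂` are conjugate under `GL₂`. -/
theorem klein_conj (h2 : (2 : F) ≠ 0) {V W : Subgroup PP} (hV : IsKleinFour V) (hW : IsKleinFour W) :
    ∃ f : SL(2, F) ≃* SL(2, F), (∀ x, tr (f x) = tr x) ∧ V.map (indP f).toMonoidHom = W := by
  obtain ⟨g, g', hP, rfl⟩ := P2.exists_pair_of_klein h2 hV
  obtain ⟨h, h', hQ, rfl⟩ := P2.exists_pair_of_klein h2 hW
  obtain ⟨u, h1, h3⟩ := P2.pair_GL h2 hP hQ
  refine ⟨glConj u, tr_glConj u, ?_⟩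
  unfold P2.klP
  rw [MonoidHom.map_closure, Set.image_pair]
  congr 2
  · change QuotientGroup.mk (glConj u g) = _
    rw [glConj_of_Rr h1]
  · congr 1
    change QuotientGroup.mk (glConj u g') = _
    rw [glConj_of_Rr h3]

omit [Fintype F] in
/-- The standard anticommuting partner of `wel`. -/
def stdJ (p r : F) (h : p ^ 2 + r ^ 2 = -1) : SL(2, F) := mk p r r (-p) (by linear_combination -h)

omit [Fintype F] in
lemma isP_std (p r : F) (h : p ^ 2 + r ^ 2 = -1) : P2.IsP (wel F) (stdJ p r h) := by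
  constructor
  · apply ext4 <;> simp [wel, mul00, mul01, mul10, mul11, P2.mO_apply, Matrix.one_apply]
  · apply ext4 <;> simp [wel, stdJ, mul00, mul01, mul10, mul11, P2.mO_apply, Matrix.one_apply, Fin.sum_univ_two]

/-- The standard Klein group. -/
def stdV (p r : F) (h : p ^ 2 + r ^ 2 = -1) : Subgroup PP := P2.klP (wel F) (stdJ p r h)

lemma stdV_klein (h2 : (2 : F) ≠ 0) (p r : F) (h : p ^ 2 + r ^ 2 = -1) : IsKleinFour (stdV p r h) :=
  P2.klP_klein h2 (isP_std p r h)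

omit [Fintype F] in
lemma pi_wel_mem (p r : F) (h : p ^ 2 + r ^ 2 = -1) : (pi (wel F) : PP) ∈ stdV p r h :=
  Subgroup.subset_closure (by simp [pi_eq_mk])

omit [Fintype F] in
lemma pi_stdJ_mem (p r : F) (h : p ^ 2 + r ^ 2 = -1) : (pi (stdJ p r h) : PP) ∈ stdV p r h :=
  Subgroup.subset_closure (by simp [pi_eq_mk])

/-- A standard pair in the prime field. -/
lemma exists_prime_pair (h2 : (2 : F) ≠ 0) : ∃ (p₀ r₀ : F) (_ : p₀ ^ 2 + r₀ ^ 2 = -1),
    ∀ E : Subfield F, p₀ ∈ E ∧ r₀ ∈ E := by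
  classical
  obtain ⟨p, hp⟩ := CharP.exists F
  haveI : Fact p.Prime := ⟨CharP.char_is_prime F p⟩
  let φ : ZMod p →+* F := ZMod.castHom (dvd_refl p) F
  have h2' : (2 : ZMod p) ≠ 0 := by
    intro h
    apply h2
    have : φ 2 = φ 0 := by rw [h]
    rwa [map_ofNat, map_zero] at this
  obtain ⟨a, b, hab⟩ := P2.exists_sq_add_sq h2' (-1 : ZMod p)
  have hmem : ∀ (a : ZMod p) (E : Subfield F), φ a ∈ E := by
    intro a E
    have e : a = ((a.val : ℕ) : ZMod p) := (ZMod.natCast_zmod_val a).symm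
    rw [e, map_natCast]
    exact natCast_mem E _
  refine ⟨φ a, φ b, ?_, fun E => ⟨hmem a E, hmem b E⟩⟩
  have := congrArg φ hab
  rwa [map_add, map_pow, map_pow, map_neg, map_one] at this

omit [Fintype F] in
/-- Recover the entries from four traces. -/
lemma entries_of_traces (h2 : (2 : F) ≠ 0) (E : Subfield F) {p r : F} (hp : p ∈ E) (hr : r ∈ E)
    (h : p ^ 2 + r ^ 2 = -1) {a b c d : F} (h1 : a + d ∈ E) (h3 : c - b ∈ E)
    (h4 : a * p + b * r + c * r - d * p ∈ E) (h5 : a * r - b * p - c * p - d * r ∈ E) :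
    a ∈ E ∧ b ∈ E ∧ c ∈ E ∧ d ∈ E := by
  have hA : a - d ∈ E := by
    have e : a - d = -(p * (a * p + b * r + c * r - d * p) + r * (a * r - b * p - c * p - d * r)) := by
      linear_combination (a - d) * h
    rw [e]
    exact E.neg_mem (E.add_mem (E.mul_mem hp h4) (E.mul_mem hr h5))
  have hB : b + c ∈ E := by
    have e : b + c = -(r * (a * p + b * r + c * r - d * p) - p * (a * r - b * p - c * p - d * r)) := by
      linear_combination (b + c) * h
    rw [e]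
    exact E.neg_mem (E.sub_mem (E.mul_mem hr h4) (E.mul_mem hp h5))
  have h2E : (2 : F) ∈ E := by
    have : (2 : F) = ((2 : ℕ) : F) := by norm_num
    rw [this]
    exact natCast_mem E 2
  have hi : (2 : F)⁻¹ ∈ E := E.inv_mem h2E
  have ea : a = 2⁻¹ * ((a + d) + (a - d)) := by
    field_simp
    ring
  have ed : d = 2⁻¹ * ((a + d) - (a - d)) := by
    field_simp
    ring
  have eb : b = 2⁻¹ * ((b + c) - (c - b)) := by
    field_simp
    ring
  have ec : c = 2⁻¹ * ((b + c) + (c - b)) := by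
    field_simp
    ring
  refine ⟨?_, ?_, ?_, ?_⟩
  · rw [ea]
    exact E.mul_mem hi (E.add_mem h1 hA)
  · rw [eb]
    exact E.mul_mem hi (E.sub_mem hB h3)
  · rw [ec]
    exact E.mul_mem hi (E.add_mem hB h3)
  · rw [ed]
    exact E.mul_mem hi (E.sub_mem h1 hA)

omit [Fintype F] in
/-- Traces of the four products. -/
lemma tr_mul_wel (x : SL(2, F)) : tr (x * wel F) =
    (x : Matrix (Fin 2) (Fin 2) F) 1 0 - (x : Matrix (Fin 2) (Fin 2) F) 0 1 := by
  simp [tr, wel, mul00, mul11]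
  ring

omit [Fintype F] in
lemma tr_mul_stdJ (p r : F) (h : p ^ 2 + r ^ 2 = -1) (x : SL(2, F)) : tr (x * stdJ p r h) =
    (x : Matrix (Fin 2) (Fin 2) F) 0 0 * p + (x : Matrix (Fin 2) (Fin 2) F) 0 1 * r +
      (x : Matrix (Fin 2) (Fin 2) F) 1 0 * r - (x : Matrix (Fin 2) (Fin 2) F) 1 1 * p := by
  simp [tr, stdJ, mul00, mul11]
  ring

omit [Fintype F] in
lemma tr_mul_wel_stdJ (p r : F) (h : p ^ 2 + r ^ 2 = -1) (x : SL(2, F)) : tr (x * (wel F * stdJ p r h)) =
    (x : Matrix (Fin 2) (Fin 2) F) 0 0 * r - (x : Matrix (Fin 2) (Fin 2) F) 0 1 * p -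
      (x : Matrix (Fin 2) (Fin 2) F) 1 0 * p - (x : Matrix (Fin 2) (Fin 2) F) 1 1 * r := by
  simp [tr, stdJ, wel, mul00, mul01, mul10, mul11]
  ring

/-- The rigidity lemma. -/
theorem rig_le (h2 : (2 : F) ≠ 0) (E : Subfield F) {p r : F} (hp : p ∈ E) (hr : r ∈ E)
    (h : p ^ 2 + r ^ 2 = -1) (M : Subgroup PP) (f : SL(2, F) ≃* SL(2, F))
    (htr : ∀ x, tr (f x) = tr x) (hw : (pi (f.symm (wel F)) : PP) ∈ M)
    (hj : (pi (f.symm (stdJ p r h)) : PP) ∈ M) (hT : ∀ x : SL(2, F), (pi x : PP) ∈ M → tr x ∈ E) :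
    M.map (indP f).toMonoidHom ≤ (embP E).range := by
  intro y hy
  obtain ⟨x, rfl⟩ := pi_surj y
  have hx := (mem_map_indP f M x).mp hy
  have htr' : ∀ z, tr (f.symm z) = tr z := by
    intro z
    have := htr (f.symm z)
    rw [MulEquiv.apply_symm_apply] at this
    exact this.symm
  have key : ∀ z, (pi (f.symm z) : PP) ∈ M → tr z ∈ E := by
    intro z hz
    rw [← htr']
    exact hT _ hz
  have h1 := key x hx
  have h3 := key (x * wel F) (by
    rw [map_mul, map_mul]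
    exact M.mul_mem hx hw)
  have h4 := key (x * stdJ p r h) (by
    rw [map_mul, map_mul]
    exact M.mul_mem hx hj)
  have h5 := key (x * (wel F * stdJ p r h)) (by
    rw [map_mul, map_mul, map_mul, map_mul]
    exact M.mul_mem hx (M.mul_mem hw hj))
  rw [tr_mul_wel] at h3
  rw [tr_mul_stdJ] at h4
  rw [tr_mul_wel_stdJ] at h5
  obtain ⟨e1, e2, e3, e4⟩ := entries_of_traces h2 E hp hr h h1 h3 h4 h5
  apply mem_of_entries (embP E).range E (fun e he => uu_mem_range E e he) (fun e he => ll_mem_range E e he)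
  intro i j
  fin_cases i <;> fin_cases j
  · exact e1
  · exact e2
  · exact e3
  · exact e4

/-- Coatoms below a subgroup. -/
lemma coatom_cases_le {G : Type*} [Group G] {M K : Subgroup G} (hM : IsCoatom M) (h : M ≤ K) :
    M = K ∨ K = ⊤ := by
  by_cases he : M = K
  · exact Or.inl he
  · exact Or.inr (hM.2 K (lt_of_le_of_ne h he))

end Cfsg.Agent.Lib.Classical.Dick
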