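import Mathlib
import Cfsg.Agent.Lib.Classical.Dick.Rig
import Cfsg.Agent.Lib.Classical.Dick.Gen

/-!
Towards the list of maximal subgroups of `PSL₂(F)`, `F` of odd order: small overgroup arguments.
-/

set_option autoImplicit false
set_option linter.unusedSimpArgs false
set_option linter.unusedVariables false

namespace Cfsg.Agent.Lib.Classical.Dick

open Matrix
open scoped MatrixGroups
open Cfsg.Agent.Lib.KS2.SL2

variable {F : Type*} [Field F] [Fintype F]

local notation "PP" => Matrix.ProjectiveSpecialLinearGroup (Fin 2) F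

omit [Fintype F] in
lemma two_ne_zero_of_char (p : ℕ) [CharP F p] (hp : p ≠ 2) [Fact p.Prime] : (2 : F) ≠ 0 := by
  intro h
  have h1 : ((2 : ℕ) : F) = 0 := by exact_mod_cast h
  have h3 := (CharP.cast_eq_zero_iff F p 2).mp h1
  exact hp ((Nat.prime_dvd_prime_iff_eq Fact.out Nat.prime_two).mp h3)

/-- Frobenius on a root of a quadratic over the prime field. -/
lemma pow_pow_of_quad (p : ℕ) [Fact p.Prime] [CharP F p] {t b c : F} (hb : b ^ p = b) (hc : c ^ p = c)
    (ht : t ^ 2 + b * t + c = 0) : (t ^ p) ^ p = t := by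
  have hφ : ∀ x : F, frobenius F p x = x ^ p := fun x => frobenius_def p x
  have hu : (t ^ p) ^ 2 + b * t ^ p + c = 0 := by
    have h := congrArg (frobenius F p) ht
    rw [map_add, map_add, map_mul, map_pow, map_zero, hφ, hφ, hφ, hb, hc] at h
    exact h
  have h1 : (t ^ p - t) * (t ^ p + t + b) = 0 := by linear_combination hu - ht
  rcases mul_eq_zero.mp h1 with h | h
  · rw [sub_eq_zero.mp h]
    exact sub_eq_zero.mp h
  · have e : t ^ p = -t - b := by linear_combination h
    have h3 : (-t - b) ^ p = - t ^ p - b := by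
      have := (frobenius F p).map_sub (-t) b
      rw [map_neg, hφ, hφ, hφ, hb] at this
      exact this
    rw [e, h3, e]
    ring

/-- Roots in an odd degree extension. -/
lemma mem_of_pow_pow_odd (p : ℕ) [Fact p.Prime] (E : Subfield F) (hE : Nat.card E = p) (n : ℕ) (hn : Odd n)
    (hq : p ^ n = Fintype.card F) {t : F} (ht : (t ^ p) ^ p = t) : t ∈ E := by
  apply mem_subfield_of_pow_card
  rw [hE]
  obtain ⟨k, rfl⟩ := hn
  have h1 : ∀ k : ℕ, t ^ (p ^ 2) ^ k = t := by
    intro k
    induction k with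
    | zero => simp
    | succ k ih =>
      rw [pow_succ, pow_mul, ih, pow_two, pow_mul, ht]
  have h2 := FiniteField.pow_card t
  rw [← hq, pow_succ, pow_mul, pow_mul p 2 k, h1 k] at h2
  exact h2

/-- Roots in the quadratic extension. -/
lemma mem_of_pow_pow_two (p : ℕ) (E : Subfield F) (hE : Nat.card E = p ^ 2) {t : F} (ht : (t ^ p) ^ p = t) :
    t ∈ E := by
  apply mem_subfield_of_pow_card
  rw [hE, pow_two, pow_mul, ht]

omit [Fintype F] in
/-- Traces of scalars. -/
lemma tr_of_scalar {x : SL(2, F)} (hx : IsScalar x) : tr x = 2 ∨ tr x = -2 := by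
  rcases isScalar_cases x hx with rfl | rfl
  · left
    simp [tr]
    norm_num
  · right
    simp [tr, mone_coe]
    norm_num

omit [Fintype F] in
lemma two_mem (E : Subfield F) : (2 : F) ∈ E := by
  have : (2 : F) = ((2 : ℕ) : F) := by norm_num
  rw [this]
  exact natCast_mem E 2

omit [Fintype F] in
/-- Traces of elements of small order lie in every subfield. -/
lemma tr_mem_small (E : Subfield F) (x : SL(2, F)) (h : (pi x : PP) ^ 2 = 1 ∨ (pi x : PP) ^ 3 = 1) : tr x ∈ E := by
  by_cases hs : IsScalar x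
  · rcases tr_of_scalar hs with e | e <;> rw [e]
    · exact two_mem E
    · exact E.neg_mem (two_mem E)
  · rcases h with h | h
    · rw [tr_of_pow2 x hs h]
      exact E.zero_mem
    · have h1 := tr_of_pow3 x hs h
      have h3 : (tr x - 1) * (tr x + 1) = 0 := by linear_combination h1
      rcases mul_eq_zero.mp h3 with h4 | h4
      · rw [sub_eq_zero.mp h4]
        exact E.one_mem
      · rw [eq_neg_of_add_eq_zero_left h4]
        exact E.neg_mem E.one_mem

omit [Fintype F] in
/-- Order facts for `A₄`. -/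
lemma pow_of_A4 (M : Subgroup PP) (i : M ≃* alternatingGroup (Fin 4)) (y : PP) (hy : y ∈ M) :
    y ^ 2 = 1 ∨ y ^ 3 = 1 := by
  rcases order_A4 (i ⟨y, hy⟩) with h | h
  · left
    rw [← map_pow] at h
    have h5 : (⟨y, hy⟩ : M) ^ 2 = 1 := i.injective (by rw [h, map_one])
    exact congrArg Subtype.val h5
  · right
    rw [← map_pow] at h
    have h5 : (⟨y, hy⟩ : M) ^ 3 = 1 := i.injective (by rw [h, map_one])
    exact congrArg Subtype.val h5

omit [Fintype F] in
lemma pow_of_S4 (M : Subgroup PP) (i : M ≃* Equiv.Perm (Fin 4)) (y : PP) (hy : y ∈ M) :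
    y ^ 2 = 1 ∨ y ^ 3 = 1 ∨ y ^ 4 = 1 := by
  rcases order_S4 (i ⟨y, hy⟩) with h | h | h
  · left
    rw [← map_pow] at h
    have h5 : (⟨y, hy⟩ : M) ^ 2 = 1 := i.injective (by rw [h, map_one])
    exact congrArg Subtype.val h5
  · right; left
    rw [← map_pow] at h
    have h5 : (⟨y, hy⟩ : M) ^ 3 = 1 := i.injective (by rw [h, map_one])
    exact congrArg Subtype.val h5
  · right; right
    rw [← map_pow] at h
    have h5 : (⟨y, hy⟩ : M) ^ 4 = 1 := i.injective (by rw [h, map_one])
    exact congrArg Subtype.val h5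

omit [Fintype F] in
lemma pow_of_A5 (M : Subgroup PP) (i : M ≃* alternatingGroup (Fin 5)) (y : PP) (hy : y ∈ M) :
    y ^ 2 = 1 ∨ y ^ 3 = 1 ∨ y ^ 5 = 1 := by
  rcases order_A5 (i ⟨y, hy⟩) with h | h | h
  · left
    rw [← map_pow] at h
    have h5 : (⟨y, hy⟩ : M) ^ 2 = 1 := i.injective (by rw [h, map_one])
    exact congrArg Subtype.val h5
  · right; left
    rw [← map_pow] at h
    have h5 : (⟨y, hy⟩ : M) ^ 3 = 1 := i.injective (by rw [h, map_one])
    exact congrArg Subtype.val h5
  · right; right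
    rw [← map_pow] at h
    have h5 : (⟨y, hy⟩ : M) ^ 5 = 1 := i.injective (by rw [h, map_one])
    exact congrArg Subtype.val h5

/-- A Klein group inside a subgroup generated by two commuting involutions. -/
lemma exists_klein_of_pair (M : Subgroup PP) (x y : PP) (hx : x ∈ M) (hy : y ∈ M) (hx2 : x * x = 1)
    (hy2 : y * y = 1) (hx1 : x ≠ 1) (hy1 : y ≠ 1) (hne : x ≠ y) (hc : x * y = y * x) :
    ∃ V : Subgroup PP, IsKleinFour V ∧ V ≤ M ∧ x ∈ V ∧ y ∈ V ∧ V = Subgroup.closure {x, y} := by
  let P : P2.kT PP := ⟨(x, y), hx2, hy2, hx1, hy1, hne, hc⟩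
  refine ⟨P2.klV P, P2.klV_klein P, ?_, P2.fst_mem_klV P, P2.snd_mem_klV P, rfl⟩
  unfold P2.klV
  rw [Subgroup.closure_le]
  rintro z (rfl | rfl)
  · exact hx
  · exact hy

/-- Rigidity starting from any Klein subgroup. -/
theorem rig_of_klein (h2 : (2 : F) ≠ 0) {M V : Subgroup PP} (hV : IsKleinFour V) (hVM : V ≤ M) :
    ∃ f : SL(2, F) ≃* SL(2, F), (∀ x, tr (f x) = tr x) ∧
      ∀ E : Subfield F, (∀ x : SL(2, F), (pi x : PP) ∈ M → tr x ∈ E) →
        M.map (indP f).toMonoidHom ≤ (embP E).range := by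
  obtain ⟨p₀, r₀, h, hE⟩ := exists_prime_pair (F := F) h2
  obtain ⟨f, hf, hVf⟩ := klein_conj h2 hV (stdV_klein h2 p₀ r₀ h)
  refine ⟨f, hf, fun E hT => ?_⟩
  apply rig_le h2 E (hE E).1 (hE E).2 h M f hf
  · apply hVM
    apply (mem_map_indP f V _).mp
    rw [hVf]
    exact pi_wel_mem p₀ r₀ h
  · apply hVM
    apply (mem_map_indP f V _).mp
    rw [hVf]
    exact pi_stdJ_mem p₀ r₀ h
  · exact hT

/-- Order of `PSL₂` of a subfield. -/
lemma two_card_PSL (h2 : (2 : F) ≠ 0) (E : Subfield F) :
    2 * Nat.card (Matrix.ProjectiveSpecialLinearGroup (Fin 2) E) = Nat.card E * (Nat.card E ^ 2 - 1) := by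
  classical
  haveI : Fintype E := Fintype.ofFinite _
  have h := card_PSL2' E
  have h3 : ringChar E ≠ 2 := by
    intro h4
    apply h2
    have h5 := ringChar.Nat.cast_ringChar (R := E)
    rw [h4] at h5
    have h6 : (2 : E) = 0 := by exact_mod_cast h5
    have h7 := congrArg E.subtype h6
    rwa [map_ofNat, map_zero] at h7
  rw [card_roots1_odd h3, ← Nat.card_eq_fintype_card] at h
  exact h

/-- Subfield of a coatom's overgroup. -/
lemma card_eq_of_le (h2 : (2 : F) ≠ 0) {M' : Subgroup PP} (hM' : IsCoatom M') (E : Subfield F)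
    (hle : M' ≤ (embP E).range) (hne : 2 * Nat.card M' ≠ Nat.card E * (Nat.card E ^ 2 - 1)) :
    Nat.card E = Fintype.card F := by
  classical
  haveI : Fintype E := Fintype.ofFinite _
  have hs : 3 ≤ Nat.card E := by
    have h3 : 2 ≤ Nat.card E := by
      rw [Nat.card_eq_fintype_card]
      exact Fintype.one_lt_card
    have h4 : Nat.card E ≠ 2 := by
      intro h5
      apply h2
      have h6 := FiniteField.cast_card_eq_zero E
      rw [← Nat.card_eq_fintype_card, h5] at h6
      have h7 : (2 : E) = 0 := by exact_mod_cast h6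
      have h8 := congrArg E.subtype h7
      rwa [map_ofNat, map_zero] at h8
    omega
  have hm : Nat.card E ^ Module.finrank E F = Fintype.card F := by
    rw [Nat.card_eq_fintype_card]
    exact (Module.card_eq_pow_finrank (K := E) (V := F)).symm
  have hm0 : Module.finrank E F ≠ 0 := Module.finrank_pos.ne'
  by_cases hm1 : Module.finrank E F = 1
  · rw [hm1, pow_one] at hm
    exact hm
  · exfalso
    have htop : (embP E).range ≠ ⊤ := by
      apply ne_top_of_card_le _ _ (Module.finrank E F) hs (by omega) hm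
      rw [card_range_embP, ← two_card_PSL h2 E]
      omega
    rcases coatom_cases_le hM' hle with h | h
    · apply hne
      rw [h, card_range_embP, two_card_PSL h2 E]
    · exact htop h

end Cfsg.Agent.Lib.Classical.Dick
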