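import Mathlib
import Cfsg.Agent.Lib.Classical.Dick.Max1

/-!
The `A₅` branch of the list of maximal subgroups of `PSL₂(F)`, `F` of odd order.
-/

set_option autoImplicit false
set_option linter.unusedSimpArgs false
set_option linter.unusedVariables false

namespace Cfsg.Agent.Lib.Classical.Dick

open Matrix
open scoped MatrixGroups
open Cfsg.Agent.Lib.KS2.SL2

variable {F : Type*} [Field F] [Fintype F]

local notation "PP" => Matrix.ProjectiveSpecialLinearGroup (Fin 2) F

/-- A golden ratio exists as soon as `5` divides the order. -/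
lemma exists_golden (K : Type*) [Field K] [Fintype K] (h : 5 ∣ Fintype.card K * (Fintype.card K ^ 2 - 1)) :
    ∃ τ : K, τ ^ 2 = τ + 1 := by
  classical
  haveI : Fact (Nat.Prime 5) := ⟨by norm_num⟩
  rw [← Cfsg.Agent.Lib.KS2.SL2.card_SL2 (F := K)] at h
  obtain ⟨x, hx⟩ := exists_prime_orderOf_dvd_card' (G := SL(2, K)) 5 h
  have h5 : x ^ 5 = 1 := by rw [← hx]; exact pow_orderOf_eq_one x
  have h1 : x ≠ 1 := by
    rintro rfl
    rw [orderOf_one] at hx
    omega
  exact exists_golden_of_order5 x h5 h1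

/-- The prime subfield. -/
lemma exists_prime_subfield (p : ℕ) [Fact p.Prime] [CharP F p] :
    ∃ (n : ℕ) (E : Subfield F), 1 ≤ n ∧ p ^ n = Fintype.card F ∧ Nat.card E = p := by
  obtain ⟨n, -, hn⟩ := FiniteField.card F p
  obtain ⟨E, ⟨r⟩⟩ := exists_subfield (F := F) (K := ZMod p) n n.pos (by rw [ZMod.card, hn])
  refine ⟨n, E, n.pos, hn.symm, ?_⟩
  rw [← Nat.card_congr r.toEquiv, Nat.card_zmod]

omit [Fintype F] in
/-- Membership of the image of the prime field. -/
lemma castHom_mem (p : ℕ) [Fact p.Prime] [CharP F p] (a : ZMod p) (E : Subfield F) :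
    ZMod.castHom (dvd_refl p) F a ∈ E := by
  have e : a = ((a.val : ℕ) : ZMod p) := (ZMod.natCast_zmod_val a).symm
  rw [e, map_natCast]
  exact natCast_mem E _

/-- Klein groups from a pair in an isomorphic copy. -/
lemma klein_in_iso {A : Type*} [Group A] (M : Subgroup PP) (i : M ≃* A) (v₁ v₂ : A)
    (h1 : v₁ * v₁ = 1) (h3 : v₂ * v₂ = 1) (h4 : v₁ ≠ 1) (h5 : v₂ ≠ 1) (h6 : v₁ ≠ v₂) (h7 : v₁ * v₂ = v₂ * v₁) :
    ∃ V : Subgroup PP, IsKleinFour V ∧ V ≤ M ∧ ((i.symm v₁ : M) : PP) ∈ V ∧ ((i.symm v₂ : M) : PP) ∈ V ∧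
      V = Subgroup.closure {((i.symm v₁ : M) : PP), ((i.symm v₂ : M) : PP)} := by
  apply exists_klein_of_pair M _ _ (i.symm v₁).2 (i.symm v₂).2
  · exact congrArg Subtype.val (by rw [← map_mul, h1, map_one] : i.symm v₁ * i.symm v₁ = 1)
  · exact congrArg Subtype.val (by rw [← map_mul, h3, map_one] : i.symm v₂ * i.symm v₂ = 1)
  · intro h
    apply h4
    have : i.symm v₁ = 1 := Subtype.ext h
    simpa using congrArg i this
  · intro h
    apply h5
    have : i.symm v₂ = 1 := Subtype.ext h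
    simpa using congrArg i this
  · intro h
    apply h6
    have : i.symm v₁ = i.symm v₂ := Subtype.ext h
    exact i.symm.injective this
  · exact congrArg Subtype.val (by rw [← map_mul, ← map_mul, h7] : i.symm v₁ * i.symm v₂ = i.symm v₂ * i.symm v₁)

set_option maxRecDepth 100000 in
private lemma a5_klein_pair : ∃ v₁ v₂ : alternatingGroup (Fin 5), v₁ * v₁ = 1 ∧ v₂ * v₂ = 1 ∧ v₁ ≠ 1 ∧ v₂ ≠ 1 ∧
    v₁ ≠ v₂ ∧ v₁ * v₂ = v₂ * v₁ :=
  ⟨⟨Equiv.swap 0 1 * Equiv.swap 2 3, Equiv.Perm.mem_alternatingGroup.mpr (by decide)⟩,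
    ⟨Equiv.swap 0 2 * Equiv.swap 1 3, Equiv.Perm.mem_alternatingGroup.mpr (by decide)⟩,
    by decide, by decide, by decide, by decide, by decide, by decide⟩

omit [Fintype F] in
/-- Traces for a copy of `A₅`. -/
lemma tr_mem_A5 (M : Subgroup PP) (i : M ≃* alternatingGroup (Fin 5)) (E : Subfield F)
    (hq : ∀ t : F, t ^ 4 - 3 * t ^ 2 + 1 = 0 → t ∈ E) (x : SL(2, F)) (hx : (pi x : PP) ∈ M) : tr x ∈ E := by
  by_cases hs : IsScalar x
  · apply tr_mem_small E x
    left
    rw [(pi_eq_one_iff x).mpr hs, one_pow]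
  · rcases pow_of_A5 M i _ hx with h | h | h
    · exact tr_mem_small E x (Or.inl h)
    · exact tr_mem_small E x (Or.inr h)
    · exact hq _ (tr_of_pow5 x hs h)

/-- Arithmetic. -/
lemma eq_five_of_card (s : ℕ) (h : s * (s ^ 2 - 1) = 120) : s = 5 := by
  by_contra hne
  rcases Nat.lt_or_ge s 6 with h1 | h1
  · interval_cases s <;> simp_all
  · have h3 : 36 ≤ s ^ 2 := by nlinarith
    have h4 : 6 * 35 ≤ s * (s ^ 2 - 1) := Nat.mul_le_mul h1 (by omega)
    omega

/-- The `A₅` branch away from characteristic five. -/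
theorem case_A5 (p : ℕ) [Fact p.Prime] [CharP F p] (hp2 : p ≠ 2) (hp5 : p ≠ 5) (M : Subgroup PP)
    (hM : IsCoatom M) (i : M ≃* alternatingGroup (Fin 5)) :
    (Fintype.card F % 10 = 1 ∨ Fintype.card F % 10 = 9) ∧
      (Fintype.card F = p ∨ (Fintype.card F = p ^ 2 ∧ (p % 10 = 3 ∨ p % 10 = 7))) := by
  classical
  have hpp : p.Prime := Fact.out
  have h2 : (2 : F) ≠ 0 := two_ne_zero_of_char p hp2
  obtain ⟨n, E₁, hn1, hq, hE₁⟩ := exists_prime_subfield (F := F) p
  have hodd : Odd p := hpp.odd_of_ne_two hp2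
  have hc60 : Nat.card M = 60 := by rw [Nat.card_congr i.toEquiv, card_A5]
  obtain ⟨v₁, v₂, a1, a2, a3, a4, a5, a6⟩ := a5_klein_pair
  obtain ⟨V, hV, hVM, -, -, -⟩ := klein_in_iso M i v₁ v₂ a1 a2 a3 a4 a5 a6
  obtain ⟨f, hf, hrig⟩ := rig_of_klein h2 hV hVM
  have hM' := isCoatom_map (indP f) M hM
  have hcM' : 2 * Nat.card (M.map (indP f).toMonoidHom) = 120 := by
    rw [card_map_indP, hc60]
  have hquad : ∀ t : F, t ^ 4 - 3 * t ^ 2 + 1 = 0 → (t ^ 2 - t - 1 = 0 ∨ t ^ 2 + t - 1 = 0) := by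
    intro t ht
    have : (t ^ 2 - t - 1) * (t ^ 2 + t - 1) = 0 := by linear_combination ht
    exact mul_eq_zero.mp this
  have hpp2 : ∀ t : F, t ^ 4 - 3 * t ^ 2 + 1 = 0 → (t ^ p) ^ p = t := by
    intro t ht
    rcases hquad t ht with h | h
    · apply pow_pow_of_quad p (b := -1) (c := -1)
      · rw [hodd.neg_one_pow]
      · rw [hodd.neg_one_pow]
      · linear_combination h
    · apply pow_pow_of_quad p (b := 1) (c := -1)
      · rw [one_pow]
      · rw [hodd.neg_one_pow]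
      · linear_combination h
  have hcase : Fintype.card F = p ∨ Fintype.card F = p ^ 2 := by
    rcases Nat.even_or_odd n with hev | hod
    · right
      obtain ⟨k, hk⟩ := hev
      obtain ⟨E₂, -, hE₂⟩ := exists_subfield_between E₁ 2 k (by omega) (by omega) (by
        rw [hE₁, ← hq, hk, two_mul])
      rw [hE₁] at hE₂
      have hle := hrig E₂ (tr_mem_A5 M i E₂ (fun t ht => mem_of_pow_pow_two p E₂ hE₂ (hpp2 t ht)))
      rw [← card_eq_of_le h2 hM' E₂ hle (by
        rw [hcM', hE₂]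
        intro h
        have h5 := eq_five_of_card _ h.symm
        have h6 : p ∣ 5 := by
          rw [← h5]
          exact dvd_pow_self p two_ne_zero
        have h7 := (Nat.prime_dvd_prime_iff_eq hpp (by norm_num)).mp h6
        exact hp5 h7), hE₂]
    · left
      have hle := hrig E₁ (tr_mem_A5 M i E₁ (fun t ht => mem_of_pow_pow_odd p E₁ hE₁ n hod hq (hpp2 t ht)))
      rw [← card_eq_of_le h2 hM' E₁ hle (by
        rw [hcM', hE₁]
        intro h
        exact hp5 (eq_five_of_card _ h.symm)), hE₁]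
  -- the congruence on q
  have hq1 : 1 ≤ Fintype.card F := Fintype.card_pos
  have hdiv : Nat.card M ∣ Nat.card PP := Subgroup.card_subgroup_dvd_card M
  have hPP : 2 * Nat.card PP = Fintype.card F * (Fintype.card F ^ 2 - 1) := by
    have h3 := card_PSL2' F
    have h4 : ringChar F ≠ 2 := by
      intro h5
      apply h2
      have h6 := ringChar.Nat.cast_ringChar (R := F)
      rw [h5] at h6
      exact_mod_cast h6
    rw [card_roots1_odd h4] at h3
    exact h3
  have h5div : 5 ∣ Fintype.card F * (Fintype.card F ^ 2 - 1) := by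
    rw [← hPP, hc60] at *
    obtain ⟨c, hc⟩ := hdiv
    rw [hc]
    exact ⟨2 * 12 * c, by ring⟩
  have h5q : ¬ 5 ∣ Fintype.card F := by
    intro h
    rw [← hq] at h
    have h6 := (Nat.prime_five).dvd_of_dvd_pow h
    exact hp5 ((Nat.prime_dvd_prime_iff_eq (by norm_num) hpp).mp h6).symm
  have h5q2 : 5 ∣ Fintype.card F ^ 2 - 1 := ((Nat.Prime.dvd_mul (by norm_num)).mp h5div).resolve_left h5q
  have hsq5 : Fintype.card F ^ 2 % 5 = 1 := by
    have : 1 ≤ Fintype.card F ^ 2 := Nat.one_le_pow _ _ hq1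
    omega
  have hmod5 : Fintype.card F % 5 = 1 ∨ Fintype.card F % 5 = 4 := by
    rw [Nat.pow_mod] at hsq5
    have h6 : Fintype.card F % 5 < 5 := Nat.mod_lt _ (by norm_num)
    interval_cases h7 : Fintype.card F % 5 <;> simp_all
  have hqodd : Fintype.card F % 2 = 1 := by
    rw [← hq, Nat.pow_mod]
    have : p % 2 = 1 := Nat.odd_iff.mp hodd
    rw [this]
    simp
  refine ⟨by omega, ?_⟩
  rcases hcase with h | h
  · exact Or.inl h
  · right
    refine ⟨h, ?_⟩
    by_contra hne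
    push Not at hne
    have hp1 : p % 2 = 1 := Nat.odd_iff.mp hodd
    have hp50 : p % 5 ≠ 0 := by
      intro h6
      have h7 : 5 ∣ p := Nat.dvd_of_mod_eq_zero h6
      exact hp5 ((Nat.prime_dvd_prime_iff_eq (by norm_num) hpp).mp h7).symm
    have hp19 : p % 5 = 1 ∨ p % 5 = 4 := by omega
    have hgold : 5 ∣ Fintype.card (ZMod p) * (Fintype.card (ZMod p) ^ 2 - 1) := by
      rw [ZMod.card]
      have hp1' : 1 ≤ p ^ 2 := Nat.one_le_pow _ _ hpp.pos
      have h6 : p ^ 2 % 5 = 1 := by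
        rw [Nat.pow_mod]
        rcases hp19 with h7 | h7 <;> rw [h7]
      have h7 : 5 ∣ p ^ 2 - 1 := by omega
      exact Dvd.dvd.mul_left h7 p
    obtain ⟨τ₀, hτ₀⟩ := exists_golden (ZMod p) hgold
    set φ : ZMod p →+* F := ZMod.castHom (dvd_refl p) F with hφ
    have hτ : (φ τ₀) ^ 2 = φ τ₀ + 1 := by
      have := congrArg φ hτ₀
      rwa [map_pow, map_add, map_one] at this
    have hτE : φ τ₀ ∈ E₁ := castHom_mem p τ₀ E₁
    have hroot : ∀ t : F, t ^ 2 = t + 1 → t ∈ E₁ := by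
      intro t ht
      have h6 : (t - φ τ₀) * (t + φ τ₀ - 1) = 0 := by linear_combination ht - hτ
      rcases mul_eq_zero.mp h6 with h7 | h7
      · rw [sub_eq_zero.mp h7]
        exact hτE
      · have : t = 1 - φ τ₀ := by linear_combination h7
        rw [this]
        exact E₁.sub_mem E₁.one_mem hτE
    have hT : ∀ t : F, t ^ 4 - 3 * t ^ 2 + 1 = 0 → t ∈ E₁ := by
      intro t ht
      rcases hquad t ht with h6 | h6
      · exact hroot t (by linear_combination h6)
      · have h7 := hroot (-t) (by linear_combination h6)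
        have h8 := E₁.neg_mem h7
        rwa [neg_neg] at h8
    have hle := hrig E₁ (tr_mem_A5 M i E₁ hT)
    have h6 := card_eq_of_le h2 hM' E₁ hle (by
      rw [hcM', hE₁]
      intro h
      exact hp5 (eq_five_of_card _ h.symm))
    rw [hE₁, h] at h6
    have h7 : 2 ≤ p := hpp.two_le
    nlinarith

end Cfsg.Agent.Lib.Classical.Dick
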