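import Mathlib
import Cfsg.Agent.Lib.Classical.Dick.Max2

/-!
The `A₄` branch of the list of maximal subgroups of `PSL₂(F)`, `F` of odd order.
-/

set_option autoImplicit false
set_option linter.unusedSimpArgs false
set_option linter.unusedVariables false

namespace Cfsg.Agent.Lib.Classical.Dick

open Matrix
open scoped MatrixGroups
open Cfsg.Agent.Lib.KS2.SL2

variable {F : Type*} [Field F] [Fintype F]

local notation "PP" => Matrix.ProjectiveSpecialLinearGroup (Fin 2) F

/-- The two generators of the normal Klein group of `S₄`. -/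
def aS4 : Equiv.Perm (Fin 4) := Equiv.swap 0 1 * Equiv.swap 2 3
/-- The two generators of the normal Klein group of `S₄`. -/
def bS4 : Equiv.Perm (Fin 4) := Equiv.swap 0 2 * Equiv.swap 1 3

set_option maxRecDepth 100000 in
set_option maxHeartbeats 4000000 in
lemma conj_aS4 : ∀ g : Equiv.Perm (Fin 4), g * aS4 * g⁻¹ = aS4 ∨ g * aS4 * g⁻¹ = bS4 ∨ g * aS4 * g⁻¹ = aS4 * bS4 := by
  decide

set_option maxRecDepth 100000 in
set_option maxHeartbeats 4000000 in
lemma conj_bS4 : ∀ g : Equiv.Perm (Fin 4), g * bS4 * g⁻¹ = aS4 ∨ g * bS4 * g⁻¹ = bS4 ∨ g * bS4 * g⁻¹ = aS4 * bS4 := by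
  decide

lemma sign_aS4 : Equiv.Perm.sign aS4 = 1 := by decide
lemma sign_bS4 : Equiv.Perm.sign bS4 = 1 := by decide

/-- The same in `A₄`. -/
def aA4 : alternatingGroup (Fin 4) := ⟨aS4, Equiv.Perm.mem_alternatingGroup.mpr sign_aS4⟩
/-- The same in `A₄`. -/
def bA4 : alternatingGroup (Fin 4) := ⟨bS4, Equiv.Perm.mem_alternatingGroup.mpr sign_bS4⟩

lemma conj_aA4 (g : alternatingGroup (Fin 4)) : g * aA4 * g⁻¹ = aA4 ∨ g * aA4 * g⁻¹ = bA4 ∨ g * aA4 * g⁻¹ = aA4 * bA4 := by
  rcases conj_aS4 g.1 with h | h | h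
  · left; exact Subtype.ext h
  · right; left; exact Subtype.ext h
  · right; right; exact Subtype.ext h

lemma conj_bA4 (g : alternatingGroup (Fin 4)) : g * bA4 * g⁻¹ = aA4 ∨ g * bA4 * g⁻¹ = bA4 ∨ g * bA4 * g⁻¹ = aA4 * bA4 := by
  rcases conj_bS4 g.1 with h | h | h
  · left; exact Subtype.ext h
  · right; left; exact Subtype.ext h
  · right; right; exact Subtype.ext h

lemma aA4_facts : aA4 * aA4 = 1 ∧ bA4 * bA4 = 1 ∧ aA4 ≠ 1 ∧ bA4 ≠ 1 ∧ aA4 ≠ bA4 ∧ aA4 * bA4 = bA4 * aA4 := by
  refine ⟨by decide, by decide, by decide, by decide, by decide, by decide⟩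

lemma aS4_facts : aS4 * aS4 = 1 ∧ bS4 * bS4 = 1 ∧ aS4 ≠ 1 ∧ bS4 ≠ 1 ∧ aS4 ≠ bS4 ∧ aS4 * bS4 = bS4 * aS4 := by
  refine ⟨by decide, by decide, by decide, by decide, by decide, by decide⟩

/-- The normal Klein subgroup of a copy of `A₄`. -/
lemma exists_normal_klein (K : Subgroup PP) (i : K ≃* alternatingGroup (Fin 4)) :
    ∃ V : Subgroup PP, IsKleinFour V ∧ V ≤ K ∧ K ≤ Subgroup.normalizer (V : Set PP) := by
  obtain ⟨a1, a2, a3, a4, a5, a6⟩ := aA4_facts
  obtain ⟨V, hV, hVK, hx, hy, hVc⟩ := klein_in_iso K i aA4 bA4 a1 a2 a3 a4 a5 a6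
  refine ⟨V, hV, hVK, ?_⟩
  intro g hg
  rw [P2.mem_norm_iff]
  have hcard : Nat.card (V.map (MulAut.conj g).toMonoidHom) = Nat.card V :=
    Nat.card_congr (V.equivMapOfInjective _ (MulAut.conj g).injective).toEquiv.symm
  have hle : V.map (MulAut.conj g).toMonoidHom ≤ V := by
    conv_lhs => rw [hVc]
    rw [MonoidHom.map_closure, Subgroup.closure_le, Set.image_pair]
    have hval : ∀ (u : alternatingGroup (Fin 4)), (MulAut.conj g).toMonoidHom ((i.symm u : K) : PP) =
        ((i.symm ((i ⟨g, hg⟩) * u * (i ⟨g, hg⟩)⁻¹) : K) : PP) := by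
      intro u
      rw [map_mul, map_mul, map_inv, MulEquiv.symm_apply_apply]
      rfl
    have hxy : ((i.symm aA4 : K) : PP) * ((i.symm bA4 : K) : PP) ∈ V := V.mul_mem hx hy
    have e : ((i.symm (aA4 * bA4) : K) : PP) = ((i.symm aA4 : K) : PP) * ((i.symm bA4 : K) : PP) := by
      rw [map_mul]
      rfl
    rintro z (rfl | rfl)
    · rw [hval]
      rcases conj_aA4 (i ⟨g, hg⟩) with h | h | h <;> rw [h]
      · exact hx
      · exact hy
      · rw [e]
        exact hxy
    · rw [hval]
      rcases conj_bA4 (i ⟨g, hg⟩) with h | h | h <;> rw [h]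
      · exact hx
      · exact hy
      · rw [e]
        exact hxy
  exact Subgroup.eq_of_le_of_card_ge hle (by rw [hcard])

/-- The `A₄` branch. -/
theorem case_A4 (p : ℕ) [Fact p.Prime] [CharP F p] (hp2 : p ≠ 2) (h5 : 5 ≤ Fintype.card F) (M : Subgroup PP)
    (hM : IsCoatom M) (i : M ≃* alternatingGroup (Fin 4)) :
    (∃ E : Subfield F, 3 ≤ Nat.card E ∧ Good M (Nat.card E)) ∨
      (Fintype.card F = p ∧ (p % 8 = 3 ∨ p % 8 = 5) ∧ ¬ (p % 10 = 1 ∨ p % 10 = 9)) := by
  classical
  have hpp : p.Prime := Fact.out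
  have h2 : (2 : F) ≠ 0 := two_ne_zero_of_char p hp2
  have h4 : 4 ≤ Fintype.card F := by omega
  obtain ⟨n, E₁, hn1, hq, hE₁⟩ := exists_prime_subfield (F := F) p
  have hp3 : 3 ≤ p := by
    have := hpp.two_le
    omega
  have hc12 : Nat.card M = 12 := by rw [Nat.card_congr i.toEquiv, card_A4]
  obtain ⟨V, hV, hVM, hMN⟩ := exists_normal_klein M i
  have hV4 : Nat.card V = 4 := hV.card_four
  have hNV : Subgroup.normalizer (V : Set PP) = M := by
    refine (coatom_cases_le hM hMN).elim Eq.symm (fun h => ?_)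
    exfalso
    apply normalizer_ne_top h4 V
    · rintro rfl
      rw [Subgroup.card_bot] at hV4
      omega
    · rintro rfl
      apply hM.1
      exact top_le_iff.mp hVM
    · exact h
  obtain ⟨f, hf, hrig⟩ := rig_of_klein h2 hV hVM
  have hM' := isCoatom_map (indP f) M hM
  have hTE : ∀ x : SL(2, F), (pi x : PP) ∈ M → tr x ∈ E₁ :=
    fun x hx => tr_mem_small E₁ x (pow_of_A4 M i _ hx)
  have hle := hrig E₁ hTE
  by_cases hs : 2 * Nat.card (M.map (indP f).toMonoidHom) = Nat.card E₁ * (Nat.card E₁ ^ 2 - 1)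
  · left
    have hEq : M.map (indP f).toMonoidHom = (embP E₁).range := by
      apply Subgroup.eq_of_le_of_card_ge hle
      rw [card_range_embP]
      have := two_card_PSL h2 E₁
      omega
    have hu : ∀ e ∈ E₁, (pi (f.symm (uu e)) : PP) ∈ M := by
      intro e he
      apply (mem_map_indP f M _).mp
      rw [hEq]
      exact uu_mem_range E₁ e he
    have hl : ∀ e ∈ E₁, (pi (f.symm (ll e)) : PP) ∈ M := by
      intro e he
      apply (mem_map_indP f M _).mp
      rw [hEq]
      exact ll_mem_range E₁ e he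
    refine ⟨E₁, by omega, E₁, f, rfl, hf, hu, hl, fun x hx => E₁.pow_mem (hTE x hx) 2, Or.inl ?_⟩
    refine (good_iso_psl M E₁ f hu hl ?_).2
    have := two_card_PSL h2 E₁
    rw [card_map_indP] at hs
    omega
  · right
    have hqp : Fintype.card F = p := by
      rw [← card_eq_of_le h2 hM' E₁ hle hs, hE₁]
    have hPP : 2 * Nat.card PP = Fintype.card F * (Fintype.card F ^ 2 - 1) := by
      have h3 := card_PSL2' F
      have h4 : ringChar F ≠ 2 := by
        intro h5
        apply h2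
        have h6 := ringChar.Nat.cast_ringChar (R := F)
        rw [h5] at h6
        exact_mod_cast h6
      rw [card_roots1_odd h4] at h3
      exact h3
    refine ⟨hqp, ?_, ?_⟩
    · by_contra hcon
      push Not at hcon
      have hsq2 : IsSquare (2 : F) := by
        rw [FiniteField.isSquare_two_iff, hqp]
        exact hcon
      obtain ⟨V₁, a, b, t, hV₁, -, -, ha, hb, hab, hne, ha1, -, -, -, -, hτ⟩ := exists_triple h2
      obtain ⟨τ, hτN, hτ2⟩ := hτ hsq2
      obtain ⟨f₁, -, hf₁⟩ := klein_conj h2 hV hV₁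
      have hNe : Subgroup.normalizer (V₁ : Set PP) = (Subgroup.normalizer (V : Set PP)).map (indP f₁).toMonoidHom := by
        rw [← hf₁]
        exact (Subgroup.map_equiv_normalizer_eq V (indP f₁)).symm
      rw [hNe, hNV] at hτN
      obtain ⟨y, hy, hyτ⟩ := hτN
      have hyτ' : indP f₁ y = τ := hyτ
      have hy4 : y ^ 4 = 1 := by
        apply (indP f₁).injective
        rw [map_pow, hyτ', map_one]
        have : τ ^ 4 = τ ^ 2 * τ ^ 2 := by rw [← pow_add]
        rw [this, hτ2, ha]
      have hy2 : y ^ 2 ≠ 1 := by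
        intro h
        apply ha1
        rw [← hτ2, ← hyτ', ← map_pow, h, map_one]
      rcases pow_of_A4 M i y hy with h | h
      · exact hy2 h
      · apply hy2
        have h7 : y = 1 := by
          have : y ^ 4 = y ^ 3 * y := by rw [pow_succ]
          rw [hy4, h, one_mul] at this
          exact this.symm
        rw [h7, one_pow]
    · intro hcon
      have hgold : 5 ∣ Fintype.card F * (Fintype.card F ^ 2 - 1) := by
        rw [hqp]
        have hp1' : 1 ≤ p ^ 2 := Nat.one_le_pow _ _ hpp.pos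
        have h6 : p ^ 2 % 5 = 1 := by
          rw [Nat.pow_mod]
          have h7 : p % 5 = 1 ∨ p % 5 = 4 := by omega
          rcases h7 with h7 | h7 <;> rw [h7]
        have h7 : 5 ∣ p ^ 2 - 1 := by omega
        exact Dvd.dvd.mul_left h7 p
      obtain ⟨T, ⟨iT⟩⟩ := exists_A5 hgold
      obtain ⟨K, hKT, ⟨iK⟩⟩ := exists_A4_of_A5 T iT
      obtain ⟨W, hW, hWK, hKN⟩ := exists_normal_klein K iK
      obtain ⟨f₂, -, hf₂⟩ := klein_conj h2 hV hW
      have hNe : Subgroup.normalizer (W : Set PP) = M.map (indP f₂).toMonoidHom := by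
        rw [← hNV, ← hf₂]
        exact (Subgroup.map_equiv_normalizer_eq V (indP f₂)).symm
      have hKc : Nat.card K = 12 := by rw [Nat.card_congr iK.toEquiv, card_A4]
      have hM2c : Nat.card (M.map (indP f₂).toMonoidHom) = 12 := by rw [card_map_indP, hc12]
      have hKM : K = M.map (indP f₂).toMonoidHom := by
        apply Subgroup.eq_of_le_of_card_ge (by rw [← hNe]; exact hKN)
        omega
      have hM2 := isCoatom_map (indP f₂) M hM
      have hTc : Nat.card T = 60 := by rw [Nat.card_congr iT.toEquiv, card_A5]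
      rcases coatom_cases_le hM2 (by rw [← hKM]; exact hKT : M.map (indP f₂).toMonoidHom ≤ T) with h | h
      · rw [← h] at hTc
        omega
      · rw [h, Subgroup.card_top] at hTc
        rw [hTc] at hPP
        have h6 := eq_five_of_card (Fintype.card F) (by omega)
        rw [hqp] at h6
        omega

end Cfsg.Agent.Lib.Classical.Dick
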