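import Mathlib
import Cfsg.Agent.Lib.Classical.Dick.Max3

/-!
The `S₄` branch of the list of maximal subgroups of `PSL₂(F)`, `F` of odd order.
-/

set_option autoImplicit false
set_option linter.unusedSimpArgs false
set_option linter.unusedVariables false

namespace Cfsg.Agent.Lib.Classical.Dick

open Matrix
open scoped MatrixGroups
open Cfsg.Agent.Lib.KS2.SL2

variable {F : Type*} [Field F] [Fintype F]

local notation "PP" => Matrix.ProjectiveSpecialLinearGroup (Fin 2) F

set_option maxRecDepth 100000 in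
set_option maxHeartbeats 4000000 in
lemma odd_perm_pow4 : ∀ g : Equiv.Perm (Fin 4), Equiv.Perm.sign g ≠ 1 → g ^ 4 = 1 := by
  decide

/-- Arithmetic. -/
lemma ne_48 (s : ℕ) : s * (s ^ 2 - 1) ≠ 48 := by
  intro h
  rcases Nat.lt_or_ge s 4 with h1 | h1
  · interval_cases s <;> simp_all
  · have h3 : 16 ≤ s ^ 2 := by nlinarith
    have h4 : 4 * 15 ≤ s * (s ^ 2 - 1) := Nat.mul_le_mul h1 (by omega)
    omega

omit [Fintype F] in
lemma tr_eq_of_sq_two (E : Subfield F) {s t : F} (hs : s ^ 2 = 2) (ht : t = 0 ∨ t ^ 2 = 2) : s * t ∈ E := by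
  rcases ht with rfl | ht
  · rw [mul_zero]
    exact E.zero_mem
  · have h1 : (s * t - 2) * (s * t + 2) = 0 := by
      have : (s * t) ^ 2 = 4 := by
        rw [mul_pow, hs, ht]
        norm_num
      linear_combination this
    rcases mul_eq_zero.mp h1 with h | h
    · rw [sub_eq_zero.mp h]
      exact two_mem E
    · rw [eq_neg_of_add_eq_zero_left h]
      exact E.neg_mem (two_mem E)

/-- Entries of a rescaled matrix give a point of the `PGL₂` subgroup. -/
lemma mem_range_psiP_of_entries (E : Subfield F) (hsq : ∀ δ ∈ E, δ ≠ 0 → ∃ (c : F) (hc : c ≠ 0), c ^ 2 = δ ∧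
    (pi : SL(2, F) →* PP) (dg c hc) ∈ (⊤ : Subgroup PP)) (x : SL(2, F)) {s : F} (hs0 : s ≠ 0)
    (hsE : s ^ 2 ∈ E) (h00 : s * (x : Matrix (Fin 2) (Fin 2) F) 0 0 ∈ E) (h01 : s * (x : Matrix (Fin 2) (Fin 2) F) 0 1 ∈ E)
    (h10 : s * (x : Matrix (Fin 2) (Fin 2) F) 1 0 ∈ E) (h11 : s * (x : Matrix (Fin 2) (Fin 2) F) 1 1 ∈ E) :
    (pi x : PP) ∈ (psiP E ⊤ hsq).range := by
  classical
  let A : Matrix (Fin 2) (Fin 2) E := !![⟨_, h00⟩, ⟨_, h01⟩; ⟨_, h10⟩, ⟨_, h11⟩]
  have hdet : A.det ≠ 0 := by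
    rw [Matrix.det_fin_two_of]
    intro h
    have h1 := congrArg (Subtype.val) h
    have hd := det_rel x
    simp only [Subfield.coe_sub, Subfield.coe_mul, ZeroMemClass.coe_zero] at h1
    have h3 : s ^ 2 * ((x : Matrix (Fin 2) (Fin 2) F) 0 0 * (x : Matrix (Fin 2) (Fin 2) F) 1 1 -
        (x : Matrix (Fin 2) (Fin 2) F) 0 1 * (x : Matrix (Fin 2) (Fin 2) F) 1 0) = 0 := by
      linear_combination h1
    rw [hd, mul_one] at h3
    exact pow_ne_zero 2 hs0 h3
  let A₀ : GL (Fin 2) E := Matrix.GeneralLinearGroup.mkOfDetNeZero A hdet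
  refine ⟨Matrix.ProjGenLinGroup.mk A₀, ?_⟩
  rw [psiP_mk]
  symm
  rw [pi_eq_iff]
  have hc2 := cOf_sq E ⊤ hsq A₀
  have hc0 := cOf_ne E ⊤ hsq A₀
  set c := cOf E ⊤ hsq A₀ with hc
  have hdetE : detE E A₀ = s ^ 2 := by
    have hd := det_rel x
    change (s * _) * (s * _) - (s * _) * (s * _) = s ^ 2
    linear_combination s ^ 2 * hd
  rw [hdetE] at hc2
  have hε : (c⁻¹ * s) * (c⁻¹ * s) = 1 := by
    have : (c⁻¹ * s) * (c⁻¹ * s) = c⁻¹ ^ 2 * s ^ 2 := by ring
    rw [this, ← hc2]
    field_simp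
  refine ⟨c⁻¹ * s, hε, ?_⟩
  have e00 : (((A₀ : Matrix (Fin 2) (Fin 2) E) 0 0 : E) : F) = s * (x : Matrix (Fin 2) (Fin 2) F) 0 0 := rfl
  have e01 : (((A₀ : Matrix (Fin 2) (Fin 2) E) 0 1 : E) : F) = s * (x : Matrix (Fin 2) (Fin 2) F) 0 1 := rfl
  have e10 : (((A₀ : Matrix (Fin 2) (Fin 2) E) 1 0 : E) : F) = s * (x : Matrix (Fin 2) (Fin 2) F) 1 0 := rfl
  have e11 : (((A₀ : Matrix (Fin 2) (Fin 2) E) 1 1 : E) : F) = s * (x : Matrix (Fin 2) (Fin 2) F) 1 1 := rfl
  apply ext4 <;> simp only [psi0, mk00, mk01, mk10, mk11, mul00, mul01, mul10, mul11, sc00, sc01, sc10, sc11, e00, e01, e10, e11, ← hc] <;> ring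

/-- The `S₄` branch. -/
theorem case_S4 (p : ℕ) [Fact p.Prime] [CharP F p] (hp2 : p ≠ 2) (M : Subgroup PP)
    (hM : IsCoatom M) (i : M ≃* Equiv.Perm (Fin 4)) :
    (Fintype.card F = p ∧ (p % 8 = 1 ∨ p % 8 = 7)) ∨
      (∃ E : Subfield F, Nat.card E ^ 2 = Fintype.card F ∧ Nonempty (M ≃* Matrix.ProjGenLinGroup (Fin 2) E)) := by
  classical
  have hpp : p.Prime := Fact.out
  have h2 : (2 : F) ≠ 0 := two_ne_zero_of_char p hp2
  obtain ⟨n, E₁, hn1, hq, hE₁⟩ := exists_prime_subfield (F := F) p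
  have hp3 : 3 ≤ p := by
    have := hpp.two_le
    omega
  have hodd : Odd p := hpp.odd_of_ne_two hp2
  have hc24 : Nat.card M = 24 := by rw [Nat.card_congr i.toEquiv, card_S4]
  obtain ⟨a1, a2, a3, a4, a5, a6⟩ := aS4_facts
  obtain ⟨V, hV, hVM, hx, hy, hVc⟩ := klein_in_iso M i aS4 bS4 a1 a2 a3 a4 a5 a6
  rcases Nat.even_or_odd n with hev | hod
  · -- even degree
    right
    obtain ⟨k, hk⟩ := hev
    obtain ⟨E', hE₁E', hE'⟩ := exists_subfield_between E₁ k 2 (by omega) (by omega) (by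
      rw [hE₁, ← hq, hk]
      ring_nf)
    rw [hE₁] at hE'
    have hcE' : Nat.card E' ^ 2 = Fintype.card F := by
      rw [hE', ← hq, hk]
      ring
    have hev2 : Even 2 := even_two
    have hsq := hsq_top E' 2 hev2 hcE'
    obtain ⟨s, hs0, hs2⟩ := isSquare_of_even_degree E' 2 hev2 hcE' 2 (two_mem E') h2
    refine ⟨E', hcE', ?_⟩
    obtain ⟨p₀, r₀, h, hE⟩ := exists_prime_pair (F := F) h2
    obtain ⟨f, hf, hVf⟩ := klein_conj h2 hV (stdV_klein h2 p₀ r₀ h)
    have htr' : ∀ z, tr (f.symm z) = tr z := by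
      intro z
      have := hf (f.symm z)
      rw [MulEquiv.apply_symm_apply] at this
      exact this.symm
    -- the sign on M
    let σ : M →* ℤˣ := Equiv.Perm.sign.comp i.toMonoidHom
    have hσV : ∀ v : PP, v ∈ V → ∃ hv : v ∈ M, σ ⟨v, hv⟩ = 1 := by
      have hA : V ≤ (σ.ker).map M.subtype := by
        rw [hVc, Subgroup.closure_le]
        have h1 : σ (i.symm aS4) = 1 := by
          change Equiv.Perm.sign (i (i.symm aS4)) = 1
          rw [MulEquiv.apply_symm_apply]
          exact sign_aS4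
        have h3 : σ (i.symm bS4) = 1 := by
          change Equiv.Perm.sign (i (i.symm bS4)) = 1
          rw [MulEquiv.apply_symm_apply]
          exact sign_bS4
        rintro z (rfl | rfl)
        · exact ⟨i.symm aS4, h1, rfl⟩
        · exact ⟨i.symm bS4, h3, rfl⟩
      intro v hv
      obtain ⟨w, hw, rfl⟩ := hA hv
      exact ⟨w.2, hw⟩
    have hwV : (pi (f.symm (wel F)) : PP) ∈ V := by
      apply (mem_map_indP f V _).mp
      rw [hVf]
      exact pi_wel_mem p₀ r₀ h
    have hjV : (pi (f.symm (stdJ p₀ r₀ h)) : PP) ∈ V := by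
      apply (mem_map_indP f V _).mp
      rw [hVf]
      exact pi_stdJ_mem p₀ r₀ h
    obtain ⟨hwM, hwσ⟩ := hσV _ hwV
    obtain ⟨hjM, hjσ⟩ := hσV _ hjV
    -- traces by sign
    have hT1 : ∀ z : SL(2, F), ∀ hz : (pi (f.symm z) : PP) ∈ M, σ ⟨_, hz⟩ = 1 → tr z ∈ E' := by
      intro z hz hσz
      rw [← htr']
      apply tr_mem_small E'
      have hm : i ⟨_, hz⟩ ∈ alternatingGroup (Fin 4) := Equiv.Perm.mem_alternatingGroup.mpr hσz
      rcases order_A4 ⟨_, hm⟩ with h3 | h3
      · left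
        have h4 : (i ⟨_, hz⟩) ^ 2 = 1 := congrArg Subtype.val h3
        rw [← map_pow] at h4
        have h5 : (⟨_, hz⟩ : M) ^ 2 = 1 := i.injective (by rw [h4, map_one])
        exact congrArg Subtype.val h5
      · right
        have h4 : (i ⟨_, hz⟩) ^ 3 = 1 := congrArg Subtype.val h3
        rw [← map_pow] at h4
        have h5 : (⟨_, hz⟩ : M) ^ 3 = 1 := i.injective (by rw [h4, map_one])
        exact congrArg Subtype.val h5
    have hT2 : ∀ z : SL(2, F), ∀ hz : (pi (f.symm z) : PP) ∈ M, σ ⟨_, hz⟩ ≠ 1 → s * tr z ∈ E' := by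
      intro z hz hσz
      rw [← htr']
      apply tr_eq_of_sq_two E' hs2
      have h3 := odd_perm_pow4 (i ⟨_, hz⟩) hσz
      rw [← map_pow] at h3
      have h5 : (⟨_, hz⟩ : M) ^ 4 = 1 := i.injective (by rw [h3, map_one])
      have h6 : (pi (f.symm z) : PP) ^ 4 = 1 := congrArg Subtype.val h5
      apply tr_of_pow4 _ _ h6
      intro hs
      apply hσz
      have h7 : (⟨_, hz⟩ : M) = 1 := Subtype.ext ((pi_eq_one_iff _).mpr hs)
      rw [h7, map_one]
    have hle : M.map (indP f).toMonoidHom ≤ (psiP E' ⊤ hsq).range := by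
      intro y hy
      obtain ⟨x, rfl⟩ := pi_surj y
      have hx := (mem_map_indP f M x).mp hy
      have hm1 : (pi (f.symm (x * wel F)) : PP) ∈ M := by
        rw [map_mul, map_mul]
        exact M.mul_mem hx hwM
      have hm2 : (pi (f.symm (x * stdJ p₀ r₀ h)) : PP) ∈ M := by
        rw [map_mul, map_mul]
        exact M.mul_mem hx hjM
      have hm3 : (pi (f.symm (x * (wel F * stdJ p₀ r₀ h))) : PP) ∈ M := by
        rw [map_mul, map_mul, map_mul, map_mul]
        exact M.mul_mem hx (M.mul_mem hwM hjM)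
      have hs1 : σ ⟨_, hm1⟩ = σ ⟨_, hx⟩ := by
        have : (⟨_, hm1⟩ : M) = ⟨_, hx⟩ * ⟨_, hwM⟩ := by
          apply Subtype.ext
          simp only [map_mul]
          rfl
        rw [this, map_mul, hwσ, mul_one]
      have hs2' : σ ⟨_, hm2⟩ = σ ⟨_, hx⟩ := by
        have : (⟨_, hm2⟩ : M) = ⟨_, hx⟩ * ⟨_, hjM⟩ := by
          apply Subtype.ext
          simp only [map_mul]
          rfl
        rw [this, map_mul, hjσ, mul_one]
      have hs3 : σ ⟨_, hm3⟩ = σ ⟨_, hx⟩ := by
        have : (⟨_, hm3⟩ : M) = ⟨_, hx⟩ * (⟨_, hwM⟩ * ⟨_, hjM⟩) := by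
          apply Subtype.ext
          simp only [map_mul]
          rfl
        rw [this, map_mul, map_mul, hwσ, hjσ, mul_one, mul_one]
      by_cases hσx : σ ⟨_, hx⟩ = 1
      · have h1 := hT1 x hx hσx
        have h3 := hT1 _ hm1 (by rw [hs1]; exact hσx)
        have h4 := hT1 _ hm2 (by rw [hs2']; exact hσx)
        have h5 := hT1 _ hm3 (by rw [hs3]; exact hσx)
        rw [tr_mul_wel] at h3
        rw [tr_mul_stdJ] at h4
        rw [tr_mul_wel_stdJ] at h5
        obtain ⟨e1, e2, e3, e4⟩ := entries_of_traces h2 E' (hE E').1 (hE E').2 h h1 h3 h4 h5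
        apply range_embP_le_psiP E' ⊤ hsq
        apply mem_of_entries (embP E').range E' (fun e he => uu_mem_range E' e he) (fun e he => ll_mem_range E' e he)
        intro i j
        fin_cases i <;> fin_cases j
        · exact e1
        · exact e2
        · exact e3
        · exact e4
      · have h1 := hT2 x hx hσx
        have h3 := hT2 _ hm1 (by rw [hs1]; exact hσx)
        have h4 := hT2 _ hm2 (by rw [hs2']; exact hσx)
        have h5 := hT2 _ hm3 (by rw [hs3]; exact hσx)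
        rw [tr_mul_wel] at h3
        rw [tr_mul_stdJ] at h4
        rw [tr_mul_wel_stdJ] at h5
        have h1' : s * (x : Matrix (Fin 2) (Fin 2) F) 0 0 + s * (x : Matrix (Fin 2) (Fin 2) F) 1 1 ∈ E' := by
          have e : s * (x : Matrix (Fin 2) (Fin 2) F) 0 0 + s * (x : Matrix (Fin 2) (Fin 2) F) 1 1 = s * tr x := by
            simp only [tr]
            ring
          rw [e]
          exact h1
        have h3' : s * (x : Matrix (Fin 2) (Fin 2) F) 1 0 - s * (x : Matrix (Fin 2) (Fin 2) F) 0 1 ∈ E' := by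
          rw [← mul_sub]
          exact h3
        have h4' : (s * (x : Matrix (Fin 2) (Fin 2) F) 0 0) * p₀ + (s * (x : Matrix (Fin 2) (Fin 2) F) 0 1) * r₀ +
            (s * (x : Matrix (Fin 2) (Fin 2) F) 1 0) * r₀ - (s * (x : Matrix (Fin 2) (Fin 2) F) 1 1) * p₀ ∈ E' := by
          convert h4 using 1
          ring
        have h5' : (s * (x : Matrix (Fin 2) (Fin 2) F) 0 0) * r₀ - (s * (x : Matrix (Fin 2) (Fin 2) F) 0 1) * p₀ -
            (s * (x : Matrix (Fin 2) (Fin 2) F) 1 0) * p₀ - (s * (x : Matrix (Fin 2) (Fin 2) F) 1 1) * r₀ ∈ E' := by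
          convert h5 using 1
          ring
        obtain ⟨e1, e2, e3, e4⟩ := entries_of_traces h2 E' (hE E').1 (hE E').2 h h1' h3' h4' h5'
        exact mem_range_psiP_of_entries E' hsq x hs0 (by rw [hs2]; exact two_mem E') e1 e2 e3 e4
    have hM' := isCoatom_map (indP f) M hM
    haveI : Fintype E' := Fintype.ofFinite _
    have hs3 : 3 ≤ Nat.card E' := by
      rw [hE']
      have h5 : p ^ 1 ≤ p ^ k := Nat.pow_le_pow_right hpp.pos (by omega)
      rw [pow_one] at h5
      omega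
    have hne : (psiP E' ⊤ hsq).range ≠ ⊤ := by
      apply ne_top_of_card_le _ (Nat.card E') 2 hs3 (le_refl 2) hcE'
      rw [card_range_psiP, card_PGL2, ← Nat.card_eq_fintype_card]
    rcases coatom_cases_le hM' hle with he | he
    · exact ⟨(M.equivMapOfInjective _ (indP f).injective).trans ((MulEquiv.subgroupCongr he).trans
        (MonoidHom.ofInjective (psiP_injective E' ⊤ hsq)).symm)⟩
    · exact (hne he).elim
  · -- odd degree
    left
    obtain ⟨f, hf, hrig⟩ := rig_of_klein h2 hV hVM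
    have hM' := isCoatom_map (indP f) M hM
    have hT : ∀ x : SL(2, F), (pi x : PP) ∈ M → tr x ∈ E₁ := by
      intro x hx
      by_cases hs : IsScalar x
      · apply tr_mem_small E₁ x
        left
        rw [(pi_eq_one_iff x).mpr hs, one_pow]
      · rcases pow_of_S4 M i _ hx with h | h | h
        · exact tr_mem_small E₁ x (Or.inl h)
        · exact tr_mem_small E₁ x (Or.inr h)
        · rcases tr_of_pow4 x hs h with h3 | h3
          · rw [h3]
            exact E₁.zero_mem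
          · apply mem_of_pow_pow_odd p E₁ hE₁ n hod hq
            apply pow_pow_of_quad p (b := 0) (c := -2)
            · rw [zero_pow hpp.ne_zero]
            · have e : frobenius F p (-2) = -2 := by
                rw [map_neg, map_ofNat]
              rwa [frobenius_def] at e
            · linear_combination h3
    have hle := hrig E₁ hT
    have hqp : Fintype.card F = p := by
      rw [← card_eq_of_le h2 hM' E₁ hle (by
        rw [card_map_indP, hc24, hE₁]
        intro h
        exact ne_48 p (by omega)), hE₁]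
    refine ⟨hqp, ?_⟩
    have h3 := sq_mod_of_S4 M i
    rw [hqp, Nat.pow_mod] at h3
    have h4 : p % 2 = 1 := Nat.odd_iff.mp hodd
    have h5 : p % 16 < 16 := Nat.mod_lt _ (by norm_num)
    have h6 : p % 16 = 1 ∨ p % 16 = 7 ∨ p % 16 = 9 ∨ p % 16 = 15 := by
      interval_cases h7 : p % 16 <;> simp_all <;> omega
    omega

end Cfsg.Agent.Lib.Classical.Dick
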