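import Mathlib
import Cfsg.Agent.Lib.Classical.Dick.Max4

/-!
The subfield and torus branches of the list of maximal subgroups of `PSL₂(F)`, `F` of odd order.
-/

set_option autoImplicit false
set_option linter.unusedSimpArgs false
set_option linter.unusedVariables false

namespace Cfsg.Agent.Lib.Classical.Dick

open Matrix
open scoped MatrixGroups
open Cfsg.Agent.Lib.KS2.SL2

variable {F : Type*} [Field F] [Fintype F]

local notation "PP" => Matrix.ProjectiveSpecialLinearGroup (Fin 2) F

omit [Fintype F] in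
lemma tr_mul_uu1 (x : SL(2, F)) : tr (x * uu (1 : F)) =
    (x : Matrix (Fin 2) (Fin 2) F) 0 0 + (x : Matrix (Fin 2) (Fin 2) F) 1 0 + (x : Matrix (Fin 2) (Fin 2) F) 1 1 := by
  simp [tr, mul00, mul11]
  ring

omit [Fintype F] in
lemma tr_mul_ll1 (x : SL(2, F)) : tr (x * ll (1 : F)) =
    (x : Matrix (Fin 2) (Fin 2) F) 0 0 + (x : Matrix (Fin 2) (Fin 2) F) 0 1 + (x : Matrix (Fin 2) (Fin 2) F) 1 1 := by
  simp [tr, mul00, mul11]

omit [Fintype F] in
lemma tr_mul_uu_ll (x : SL(2, F)) : tr (x * (uu (1 : F) * ll (1 : F))) =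
    2 * (x : Matrix (Fin 2) (Fin 2) F) 0 0 + (x : Matrix (Fin 2) (Fin 2) F) 0 1 + (x : Matrix (Fin 2) (Fin 2) F) 1 0 +
      (x : Matrix (Fin 2) (Fin 2) F) 1 1 := by
  simp [tr, mul00, mul01, mul10, mul11]
  ring

omit [Fintype F] in
/-- Subfield membership from a square in a smaller subfield. -/
lemma mem_of_sq_mem [Finite F] (E E' : Subfield F) (hE' : Nat.card E' = Nat.card E ^ 2) (hodd : Odd (Nat.card E)) {t : F}
    (ht : t ^ 2 ∈ E) : t ∈ E' := by
  classical
  haveI : Fintype F := Fintype.ofFinite F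
  haveI : Fintype E := Fintype.ofFinite _
  apply mem_subfield_of_pow_card
  rw [hE', pow_two, pow_mul]
  have h1 : (t ^ 2) ^ Nat.card E = t ^ 2 := by
    have h3 := FiniteField.pow_card (⟨t ^ 2, ht⟩ : E)
    rw [← Nat.card_eq_fintype_card] at h3
    exact congrArg Subtype.val h3
  have h3 : (t ^ Nat.card E - t) * (t ^ Nat.card E + t) = 0 := by
    rw [← pow_mul, mul_comm, pow_mul] at h1
    linear_combination h1
  rcases mul_eq_zero.mp h3 with h | h
  · rw [sub_eq_zero.mp h]
    exact sub_eq_zero.mp h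
  · have e : t ^ Nat.card E = -t := by linear_combination h
    rw [e, hodd.neg_pow, e, neg_neg]

/-- The subfield branch. -/
theorem good_branch_odd (h2 : (2 : F) ≠ 0) (M : Subgroup PP) (hM : IsCoatom M) (s : ℕ) (hs : 3 ≤ s) (hG : Good M s) :
    (∃ E : Subfield F, Nat.card E ^ 2 = Fintype.card F ∧ Nonempty (M ≃* Matrix.ProjGenLinGroup (Fin 2) E)) ∨
      (∃ (E : Subfield F) (r : ℕ), r.Prime ∧ Odd r ∧ Nat.card E ^ r = Fintype.card F ∧
        Nonempty (M ≃* Matrix.ProjectiveSpecialLinearGroup (Fin 2) E)) := by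
  classical
  obtain ⟨-, -, htop⟩ := good_facts hG
  obtain ⟨E, f, hE, hf, hu, hl, ht2, hiso⟩ := hG
  haveI : Fintype E := Fintype.ofFinite _
  have hm : Nat.card E ^ Module.finrank E F = Fintype.card F := by
    rw [Nat.card_eq_fintype_card]
    exact (Module.card_eq_pow_finrank (K := E) (V := F)).symm
  set m := Module.finrank E F with hmdef
  have hm1 : m ≠ 1 := by
    intro h
    rw [h, pow_one] at hm
    exact hM.1 (htop (by rw [← hE, hm]))
  have hm0 : m ≠ 0 := Module.finrank_pos.ne'
  have hcPSL := two_card_PSL h2 E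
  have hcPGL : Nat.card (Matrix.ProjGenLinGroup (Fin 2) E) = Nat.card E * (Nat.card E ^ 2 - 1) := by
    have := card_PGL2 E
    rw [← Nat.card_eq_fintype_card] at this
    exact this
  have hs' : 3 ≤ Nat.card E := by omega
  have hpos : 0 < Nat.card E * (Nat.card E ^ 2 - 1) := by
    have h3 : 9 ≤ Nat.card E ^ 2 := by nlinarith
    exact Nat.mul_pos (by omega) (by omega)
  have hqodd : Odd (Fintype.card F) := by
    apply Nat.odd_iff.mpr
    apply FiniteField.odd_card_of_char_ne_two
    intro h5
    apply h2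
    have h6 := ringChar.Nat.cast_ringChar (R := F)
    rw [h5] at h6
    exact_mod_cast h6
  have hM' := isCoatom_map (indP f) M hM
  have hsodd : Odd (Nat.card E) := by
    rw [← hm] at hqodd
    exact (Nat.odd_pow_iff hm0).mp hqodd
  rcases hiso with (⟨⟨i⟩⟩ | ⟨⟨i⟩⟩)
  · right
    have hc : Nat.card M ≤ Nat.card (Matrix.ProjectiveSpecialLinearGroup (Fin 2) E) := by
      rw [Nat.card_congr i.toEquiv]
    obtain ⟨hR, -⟩ := good_iso_psl M E f hu hl hc
    refine ⟨E, m, ?_, ?_, hm, ⟨i⟩⟩
    · by_contra hnp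
      obtain ⟨a, b, ha, hb, hab⟩ := exists_mul_of_not_prime m (by omega) hnp
      exact good_composite M hM E f hu hl hc hs' a b ha hb (by rw [hab, hm])
    · rcases Nat.even_or_odd m with hev | hod
      swap
      · exact hod
      exfalso
      have hsq := hsq_top E m hev hm
      have hle : M.map (indP f).toMonoidHom ≤ (psiP E ⊤ hsq).range := by
        rw [← hR]
        exact range_embP_le_psiP E ⊤ hsq
      have hne : (psiP E ⊤ hsq).range ≠ ⊤ := by
        apply ne_top_of_card_le _ (Nat.card E) m hs' (by omega) hm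
        rw [card_range_psiP, hcPGL]
      rcases coatom_cases_le hM' hle with he | he
      · have h3 : Nat.card (M.map (indP f).toMonoidHom) = Nat.card (psiP E ⊤ hsq).range := by rw [he]
        rw [← hR, card_range_embP, card_range_psiP, hcPGL] at h3
        omega
      · exact hne he
  · left
    rcases Nat.even_or_odd m with hev | hod
    swap
    · exact (no_pgl_subgroup E m hod hqodd (by rw [← Nat.card_eq_fintype_card]; exact hm) M i).elim
    obtain ⟨k, hk⟩ := hev
    by_cases hk1 : k = 1
    · refine ⟨E, ?_, ⟨i⟩⟩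
      rw [← hm, hk, hk1]
    exfalso
    have hk2 : 2 ≤ k := by omega
    obtain ⟨E', -, hE'⟩ := exists_subfield_between E 2 k (by omega) (by omega) (by
      rw [← hm, hk, two_mul])
    have htr' : ∀ z, tr (f.symm z) = tr z := by
      intro z
      have := hf (f.symm z)
      rw [MulEquiv.apply_symm_apply] at this
      exact this.symm
    have key : ∀ z : SL(2, F), (pi (f.symm z) : PP) ∈ M → tr z ∈ E' := by
      intro z hz
      apply mem_of_sq_mem E E' hE' hsodd
      rw [← htr']
      exact ht2 _ hz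
    have hle : M.map (indP f).toMonoidHom ≤ (embP E').range := by
      intro y hy
      obtain ⟨x, rfl⟩ := pi_surj y
      have hx := (mem_map_indP f M x).mp hy
      have hu1 := hu 1 E.one_mem
      have hl1 := hl 1 E.one_mem
      have h1 := key x hx
      have h3 := key (x * uu 1) (by
        rw [map_mul, map_mul]
        exact M.mul_mem hx hu1)
      have h4 := key (x * ll 1) (by
        rw [map_mul, map_mul]
        exact M.mul_mem hx hl1)
      have h5 := key (x * (uu 1 * ll 1)) (by
        rw [map_mul, map_mul, map_mul, map_mul]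
        exact M.mul_mem hx (M.mul_mem hu1 hl1))
      rw [tr_mul_uu1] at h3
      rw [tr_mul_ll1] at h4
      rw [tr_mul_uu_ll] at h5
      have h1' : (x : Matrix (Fin 2) (Fin 2) F) 0 0 + (x : Matrix (Fin 2) (Fin 2) F) 1 1 ∈ E' := h1
      have ec : (x : Matrix (Fin 2) (Fin 2) F) 1 0 ∈ E' := by
        have := E'.sub_mem h3 h1'
        convert this using 1
        ring
      have eb : (x : Matrix (Fin 2) (Fin 2) F) 0 1 ∈ E' := by
        have := E'.sub_mem h4 h1'
        convert this using 1
        ring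
      have ea : (x : Matrix (Fin 2) (Fin 2) F) 0 0 ∈ E' := by
        have := E'.sub_mem (E'.sub_mem (E'.sub_mem h5 h1') eb) ec
        convert this using 1
        ring
      have ed : (x : Matrix (Fin 2) (Fin 2) F) 1 1 ∈ E' := by
        have := E'.sub_mem h1' ea
        convert this using 1
        ring
      apply mem_of_entries (embP E').range E' (fun e he => uu_mem_range E' e he) (fun e he => ll_mem_range E' e he)
      intro i j
      fin_cases i <;> fin_cases j
      · exact ea
      · exact eb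
      · exact ec
      · exact ed
    have hcE' := two_card_PSL h2 E'
    have hs2 : 3 ≤ Nat.card E' := by
      rw [hE']
      nlinarith
    have hne : (embP E').range ≠ ⊤ := by
      apply ne_top_of_card_le _ (Nat.card E') k hs2 hk2 (by rw [hE', ← hm, hk, ← two_mul, pow_mul])
      rw [card_range_embP]
      have hpos' : 0 < Nat.card (Matrix.ProjectiveSpecialLinearGroup (Fin 2) E) ∨ True := Or.inr trivial
      omega
    rcases coatom_cases_le hM' hle with he | he
    · have h3 : Nat.card (M.map (indP f).toMonoidHom) = Nat.card (embP E').range := by rw [he]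
      rw [card_map_indP, card_range_embP, Nat.card_congr i.toEquiv] at h3
      have h4 := card_PSL_lt (Nat.card E) (Nat.card E') 1 2 _ _ hs' (le_of_eq hE'.symm) (le_refl 1) (le_refl 2)
        (by rw [one_mul]) hcE'
      omega
    · exact hne he

/-! ### Generic conjugation arguments -/

section generic

variable {G : Type*} [Group G] [Finite G]

/-- A subgroup whose order is the full `p`-part is conjugate into any subgroup with order divisible by it. -/
lemma exists_conj_le_of_sylow (p : ℕ) [Fact p.Prime] (a : ℕ) (M T : Subgroup G) (hM : Nat.card M = p ^ a)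
    (hG : ¬ p ^ (a + 1) ∣ Nat.card G) (hT : p ^ a ∣ Nat.card T) :
    ∃ g : G, M ≤ T.map (MulAut.conj g).toMonoidHom := by
  classical
  have hpp : p.Prime := Fact.out
  obtain ⟨K', hK'⟩ := Sylow.exists_subgroup_card_pow_prime (G := T) p hT
  set K : Subgroup G := K'.map T.subtype with hK
  have hKc : Nat.card K = p ^ a := by
    rw [hK, ← hK']
    exact Nat.card_congr (K'.equivMapOfInjective _ T.subtype_injective).toEquiv.symm
  have hKT : K ≤ T := by
    rintro _ ⟨y, -, rfl⟩
    exact y.2
  have hbound : ∀ S : Sylow p G, Nat.card (S : Subgroup G) ≤ p ^ a := by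
    intro S
    obtain ⟨b, hb⟩ := IsPGroup.iff_card.mp S.isPGroup'
    rw [hb]
    apply Nat.pow_le_pow_right hpp.pos
    by_contra hlt
    apply hG
    have h1 : p ^ (a + 1) ∣ p ^ b := pow_dvd_pow p (by omega)
    rw [← hb] at h1
    exact h1.trans (Subgroup.card_subgroup_dvd_card _)
  obtain ⟨S₁, hS₁⟩ := (IsPGroup.of_card hM).exists_le_sylow
  obtain ⟨S₂, hS₂⟩ := (IsPGroup.of_card hKc).exists_le_sylow
  have e1 : M = S₁ := Subgroup.eq_of_le_of_card_ge hS₁ (by rw [hM]; exact hbound S₁)
  have e2 : K = S₂ := Subgroup.eq_of_le_of_card_ge hS₂ (by rw [hKc]; exact hbound S₂)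
  obtain ⟨g, hg⟩ := MulAction.exists_smul_eq G S₂ S₁
  refine ⟨g, ?_⟩
  have h3 : ((g • S₂ : Sylow p G) : Subgroup G) = (S₂ : Subgroup G).map (MulAut.conj g).toMonoidHom := rfl
  rw [e1, ← hg, h3, ← e2]
  exact Subgroup.map_mono hKT

/-- The normaliser of a torus of prime order is conjugate into a group containing an inverted element. -/
lemma exists_conj_le_of_inverted (k : ℕ) [Fact k.Prime] (hk2 : k ≠ 2) (hG : ¬ k ^ 2 ∣ Nat.card G)
    (C M T : Subgroup G) (hC : Nat.card C = k) (hCM : C ≤ M) (hM : Nat.card M = 2 * k)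
    (hMN : Subgroup.normalizer (C : Set G) ≤ M) {y w : G} (hyT : y ∈ T) (hwT : w ∈ T) (hy : orderOf y = k)
    (hw : w * y * w⁻¹ = y⁻¹) : ∃ g : G, M ≤ T.map (MulAut.conj g).toMonoidHom := by
  classical
  have hkp : k.Prime := Fact.out
  have hzc : Nat.card (Subgroup.zpowers y) = k := by rw [Nat.card_zpowers, hy]
  obtain ⟨g, hg⟩ := exists_conj_le_of_sylow k 1 C (Subgroup.zpowers y) (by rw [hC, pow_one]) (by simpa using hG)
    (by rw [hzc, pow_one])
  have hmapc : Nat.card ((Subgroup.zpowers y).map (MulAut.conj g).toMonoidHom) = k := by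
    rw [← hzc]
    exact Nat.card_congr ((Subgroup.zpowers y).equivMapOfInjective _ (MulAut.conj g).injective).toEquiv.symm
  have hCeq : C = (Subgroup.zpowers y).map (MulAut.conj g).toMonoidHom :=
    Subgroup.eq_of_le_of_card_ge hg (by omega)
  set y' := g * y * g⁻¹ with hy'
  set w' := g * w * g⁻¹ with hw'
  have hCz : C = Subgroup.zpowers y' := by
    rw [hCeq, MonoidHom.map_zpowers]
    rfl
  have hw'y' : w' * y' * w'⁻¹ = y'⁻¹ := by
    rw [hy', hw']
    have e : g * w * g⁻¹ * (g * y * g⁻¹) * (g * w * g⁻¹)⁻¹ = g * (w * y * w⁻¹) * g⁻¹ := by group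
    rw [e, hw]
    group
  have hw'N : w' ∈ Subgroup.normalizer (C : Set G) := by
    rw [P2.mem_norm_iff, hCz, MonoidHom.map_zpowers]
    have e : (MulAut.conj w').toMonoidHom y' = y'⁻¹ := hw'y'
    rw [e, Subgroup.zpowers_inv]
  have hw'nC : w' ∉ C := by
    intro h
    rw [hCz] at h
    obtain ⟨n, hn⟩ := Subgroup.mem_zpowers_iff.mp h
    have h3 : w' * y' * w'⁻¹ = y' := by
      rw [← hn]
      group
    rw [hw'y'] at h3
    have h4 : y' ^ 2 = 1 := by
      rw [sq]
      nth_rewrite 1 [← h3]
      exact inv_mul_cancel y'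
    have h5 : orderOf y' = k := by
      rw [hy', ← hy]
      exact orderOf_injective (MulAut.conj g).toMonoidHom (MulAut.conj g).injective y
    have h6 := orderOf_dvd_of_pow_eq_one h4
    rw [h5] at h6
    exact hk2 ((Nat.prime_dvd_prime_iff_eq hkp Nat.prime_two).mp h6)
  refine ⟨g, ?_⟩
  set T' := T.map (MulAut.conj g).toMonoidHom with hT'
  have hCT' : C ≤ T' := by
    rw [hCeq]
    apply Subgroup.map_mono
    rw [Subgroup.zpowers_le]
    exact hyT
  have hw'T' : w' ∈ T' := ⟨w, hwT, rfl⟩
  set D := M ⊓ T' with hD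
  have hCD : C ≤ D := le_inf hCM hCT'
  have hDM : D ≤ M := inf_le_left
  have hw'D : w' ∈ D := ⟨hMN hw'N, hw'T'⟩
  have h1 : Nat.card C ∣ Nat.card D := Subgroup.card_dvd_of_le hCD
  have h3 : Nat.card D ∣ Nat.card M := Subgroup.card_dvd_of_le hDM
  rw [hC] at h1
  rw [hM] at h3
  obtain ⟨c, hc⟩ := h1
  have hkpos : 0 < k := hkp.pos
  have hc2 : c ∣ 2 := by
    rw [hc] at h3
    rw [mul_comm 2 k] at h3
    exact (Nat.mul_dvd_mul_iff_left hkpos).mp h3
  have hc1 : c ≠ 1 := by
    rintro rfl
    rw [mul_one] at hc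
    have : C = D := Subgroup.eq_of_le_of_card_ge hCD (by omega)
    rw [this] at hw'nC
    exact hw'nC hw'D
  have hc3 : c = 2 := by
    have := (Nat.dvd_prime Nat.prime_two).mp hc2
    tauto
  have hDe : D = M := Subgroup.eq_of_le_of_card_ge hDM (by rw [hc, hc3, hM, mul_comm])
  rw [← hDe]
  exact inf_le_right

end generic

end Cfsg.Agent.Lib.Classical.Dick
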