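import Mathlib
import Cfsg.Agent.Lib.Classical.Dick.Max5

/-!
The torus branch, and the list of maximal subgroups of `PSL₂(F)`, `F` of odd order.
-/

set_option autoImplicit false
set_option linter.unusedSimpArgs false
set_option linter.unusedVariables false

namespace Cfsg.Agent.Lib.Classical.Dick

open Matrix
open scoped MatrixGroups
open Cfsg.Agent.Lib.KS2.SL2

variable {F : Type*} [Field F] [Fintype F]

local notation "PP" => Matrix.ProjectiveSpecialLinearGroup (Fin 2) F

set_option maxRecDepth 100000 in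
lemma S4_inverted : ∃ y w : Equiv.Perm (Fin 4), y ^ 3 = 1 ∧ y ≠ 1 ∧ w * y * w⁻¹ = y⁻¹ :=
  ⟨Equiv.swap 0 1 * Equiv.swap 1 2, Equiv.swap 0 1, by decide, by decide, by decide⟩

set_option maxRecDepth 100000 in
set_option maxHeartbeats 4000000 in
lemma A5_inverted : ∃ y w : alternatingGroup (Fin 5), y ^ 5 = 1 ∧ y ≠ 1 ∧ w * y * w⁻¹ = y⁻¹ :=
  ⟨⟨Equiv.swap 0 1 * Equiv.swap 1 2 * Equiv.swap 2 3 * Equiv.swap 3 4, Equiv.Perm.mem_alternatingGroup.mpr (by decide)⟩,
    ⟨Equiv.swap 1 4 * Equiv.swap 2 3, Equiv.Perm.mem_alternatingGroup.mpr (by decide)⟩, by decide, by decide, by decide⟩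

omit [Fintype F] in
lemma excl_of_conj [Finite F] (M T : Subgroup PP) (hM : IsCoatom M) (g : PP) (hle : M ≤ T.map (MulAut.conj g).toMonoidHom)
    (h1 : Nat.card M ≠ Nat.card T) (h3 : Nat.card T ≠ Nat.card PP) : False := by
  have hc : Nat.card (T.map (MulAut.conj g).toMonoidHom) = Nat.card T :=
    Nat.card_congr (T.equivMapOfInjective _ (MulAut.conj g).injective).toEquiv.symm
  rcases coatom_cases_le hM hle with h | h
  · rw [h] at h1
    exact h1 hc
  · rw [h, Subgroup.card_top] at hc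
    exact h3 hc.symm

omit [Fintype F] in
/-- Order of the image under an isomorphism. -/
lemma orderOf_symm {M' A : Type*} [Group M'] [Group A] (i : M' ≃* A) {y : A} (k : ℕ) [Fact k.Prime] (h1 : y ^ k = 1) (h3 : y ≠ 1) :
    orderOf (i.symm y) = k := by
  apply orderOf_eq_prime
  · rw [← map_pow, h1, map_one]
  · intro h
    apply h3
    simpa using congrArg i h

lemma hPP_eq (h2 : (2 : F) ≠ 0) : 2 * Nat.card PP = Fintype.card F * (Fintype.card F ^ 2 - 1) := by
  have h3 := card_PSL2' F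
  have h4 : ringChar F ≠ 2 := by
    intro h5
    apply h2
    have h6 := ringChar.Nat.cast_ringChar (R := F)
    rw [h5] at h6
    exact_mod_cast h6
  rw [card_roots1_odd h4] at h3
  exact h3

/-- The torus branch. -/
theorem case_torus (h5 : 5 ≤ Fintype.card F) (h2 : (2 : F) ≠ 0) (M : Subgroup PP) (hM : IsCoatom M)
    (x : SL(2, F)) (hτ : (tr x) ^ 2 ≠ 4) (e : M = Subgroup.normalizer ((CP (pi x) : Subgroup PP) : Set PP)) :
    (13 ≤ Fintype.card F ∧ ∃ k : ℕ, 2 * k = Fintype.card F - 1 ∧ Nonempty (M ≃* DihedralGroup k)) ∨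
      (Fintype.card F ≠ 7 ∧ Fintype.card F ≠ 9 ∧ ∃ k : ℕ, 2 * k = Fintype.card F + 1 ∧ Nonempty (M ≃* DihedralGroup k)) := by
  classical
  set C : Subgroup PP := CP (pi x) with hC
  set k := Nat.card C with hk
  obtain ⟨i⟩ := normalizer_dihedral x hτ
  rw [← e] at i
  have hcM : Nat.card M = 2 * k := by
    rw [Nat.card_congr i.toEquiv, DihedralGroup.nat_card]
  have hqodd : Fintype.card F % 2 = 1 := by
    apply FiniteField.odd_card_of_char_ne_two
    intro h5
    apply h2
    have h6 := ringChar.Nat.cast_ringChar (R := F)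
    rw [h5] at h6
    exact_mod_cast h6
  have hgcd : Nat.gcd 2 (Fintype.card F - 1) = 2 := by
    apply Nat.gcd_eq_left
    omega
  have hPP := hPP_eq h2
  have hCM : C ≤ M := by
    rw [e]
    exact Subgroup.le_normalizer
  have hMN : Subgroup.normalizer (C : Set PP) ≤ M := by
    rw [e]
  have hcard : 2 * k = Fintype.card F - 1 ∨ 2 * k = Fintype.card F + 1 := by
    rcases (CP_ss x hτ).2 with h | h
    · left
      rw [hgcd] at h
      have h3 : k = (Fintype.card F - 1) / 2 := h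
      omega
    · right
      rw [hgcd] at h
      have h3 : k = (Fintype.card F + 1) / 2 := h
      omega
  have hsq2 : (Fintype.card F % 8 ≠ 3 ∧ Fintype.card F % 8 ≠ 5) → IsSquare (2 : F) :=
    fun h => FiniteField.isSquare_two_iff.mpr h
  -- the exclusions
  have excl4 : (Fintype.card F = 7 ∨ Fintype.card F = 9) → k = 4 → False := by
    intro hq hk4
    haveI : Fact (Nat.Prime 2) := ⟨Nat.prime_two⟩
    obtain ⟨T, ⟨iT⟩⟩ := exists_S4 h2 (hsq2 (by rcases hq with h | h <;> rw [h] <;> norm_num))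
    have hTc : Nat.card T = 24 := by rw [Nat.card_congr iT.toEquiv, card_S4]
    have hP : Nat.card PP = 168 ∨ Nat.card PP = 360 := by
      rcases hq with h | h
      · have : 2 * Nat.card PP = 336 := by rw [hPP, h]; norm_num
        omega
      · have : 2 * Nat.card PP = 720 := by rw [hPP, h]; norm_num
        omega
    obtain ⟨g, hg⟩ := exists_conj_le_of_sylow 2 3 M T (by rw [hcM, hk4]; norm_num) (by
      rcases hP with h | h <;> rw [h] <;> norm_num) (by rw [hTc]; norm_num)
    apply excl_of_conj M T hM g hg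
    · rw [hcM, hTc, hk4]
      norm_num
    · rw [hTc]
      rcases hP with h | h <;> rw [h] <;> norm_num
  have excl3 : Fintype.card F = 7 → k = 3 → False := by
    intro hq hk3
    haveI : Fact (Nat.Prime 3) := ⟨by norm_num⟩
    obtain ⟨T, ⟨iT⟩⟩ := exists_S4 h2 (hsq2 (by rw [hq]; norm_num))
    have hTc : Nat.card T = 24 := by rw [Nat.card_congr iT.toEquiv, card_S4]
    have hP : Nat.card PP = 168 := by
      have : 2 * Nat.card PP = 336 := by rw [hPP, hq]; norm_num
      omega
    obtain ⟨y, w, h1, h3, h4⟩ := S4_inverted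
    obtain ⟨g, hg⟩ := exists_conj_le_of_inverted 3 (by norm_num) (by rw [hP]; norm_num) C M T (by rw [← hk, hk3]) hCM
      (by rw [hcM, hk3]) hMN (y := ((iT.symm y : T) : PP)) (w := ((iT.symm w : T) : PP)) (iT.symm y).2 (iT.symm w).2
      (by
        rw [Subgroup.orderOf_coe]
        exact orderOf_symm iT 3 h1 h3)
      (by
        have : iT.symm w * iT.symm y * (iT.symm w)⁻¹ = (iT.symm y)⁻¹ := by
          rw [← map_inv, ← map_mul, ← map_mul, ← map_inv, h4]
        exact congrArg Subtype.val this)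
    apply excl_of_conj M T hM g hg
    · rw [hcM, hTc, hk3]
      norm_num
    · rw [hTc, hP]
      norm_num
  have excl5 : (Fintype.card F = 9 ∨ Fintype.card F = 11) → k = 5 → False := by
    intro hq hk5
    haveI : Fact (Nat.Prime 5) := ⟨by norm_num⟩
    obtain ⟨T, ⟨iT⟩⟩ := exists_A5 (F := F) (by rcases hq with h | h <;> rw [h] <;> norm_num)
    have hTc : Nat.card T = 60 := by rw [Nat.card_congr iT.toEquiv, card_A5]
    have hP : Nat.card PP = 360 ∨ Nat.card PP = 660 := by
      rcases hq with h | h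
      · have : 2 * Nat.card PP = 720 := by rw [hPP, h]; norm_num
        omega
      · have : 2 * Nat.card PP = 1320 := by rw [hPP, h]; norm_num
        omega
    obtain ⟨y, w, h1, h3, h4⟩ := A5_inverted
    obtain ⟨g, hg⟩ := exists_conj_le_of_inverted 5 (by norm_num) (by rcases hP with h | h <;> rw [h] <;> norm_num)
      C M T (by rw [← hk, hk5]) hCM
      (by rw [hcM, hk5]) hMN (y := ((iT.symm y : T) : PP)) (w := ((iT.symm w : T) : PP)) (iT.symm y).2 (iT.symm w).2
      (by
        rw [Subgroup.orderOf_coe]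
        exact orderOf_symm iT 5 h1 h3)
      (by
        have : iT.symm w * iT.symm y * (iT.symm w)⁻¹ = (iT.symm y)⁻¹ := by
          rw [← map_inv, ← map_mul, ← map_mul, ← map_inv, h4]
        exact congrArg Subtype.val this)
    apply excl_of_conj M T hM g hg
    · rw [hcM, hTc, hk5]
      norm_num
    · rw [hTc]
      rcases hP with h | h <;> rw [h] <;> norm_num
  rcases hcard with h | h
  · left
    refine ⟨?_, k, h, ⟨i⟩⟩
    by_contra hlt
    have hq : Fintype.card F = 5 ∨ Fintype.card F = 7 ∨ Fintype.card F = 9 ∨ Fintype.card F = 11 := by omega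
    rcases hq with hq | hq | hq | hq
    · have hk2 : k = 2 := by omega
      have aux : ∀ n : ℕ, n = 2 → (M ≃* DihedralGroup n) → (M ≃* DihedralGroup 2) := by
        rintro n rfl j
        exact j
      have i2 : M ≃* DihedralGroup 2 := aux k hk2 i
      exact no_klein_coatom (by omega) h2 M hM i2
    · exact excl3 hq (by omega)
    · exact excl4 (Or.inr hq) (by omega)
    · exact excl5 (Or.inr hq) (by omega)
  · right
    refine ⟨fun hq => excl4 (Or.inl hq) (by omega), fun hq => excl5 (Or.inl hq) (by omega), k, h, ⟨i⟩⟩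

/-- The list of maximal subgroups of `PSL₂(F)`, `F` of odd order, with subfields. -/
theorem max_psl2_odd (p : ℕ) [Fact p.Prime] [CharP F p] (hodd : Odd (Fintype.card F)) (h5 : 5 ≤ Fintype.card F)
    (M : Subgroup PP) (hM : IsCoatom M) :
    2 * Nat.card M = Fintype.card F * (Fintype.card F - 1) ∨
    (13 ≤ Fintype.card F ∧ (∃ k : ℕ, 2 * k = Fintype.card F - 1 ∧ Nonempty (M ≃* DihedralGroup k))) ∨
    (Fintype.card F ≠ 7 ∧ Fintype.card F ≠ 9 ∧ (∃ k : ℕ, 2 * k = Fintype.card F + 1 ∧ Nonempty (M ≃* DihedralGroup k))) ∨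
    (∃ E : Subfield F, Nat.card E ^ 2 = Fintype.card F ∧ Nonempty (M ≃* Matrix.ProjGenLinGroup (Fin 2) E)) ∨
    (∃ (E : Subfield F) (r : ℕ), r.Prime ∧ Odd r ∧ Nat.card E ^ r = Fintype.card F ∧
        Nonempty (M ≃* Matrix.ProjectiveSpecialLinearGroup (Fin 2) E)) ∨
    ((Fintype.card F % 10 = 1 ∨ Fintype.card F % 10 = 9) ∧
        (Fintype.card F = p ∨ (Fintype.card F = p ^ 2 ∧ (p % 10 = 3 ∨ p % 10 = 7))) ∧
        Nonempty (M ≃* alternatingGroup (Fin 5))) ∨
    (Fintype.card F = p ∧ (p % 8 = 3 ∨ p % 8 = 5) ∧ ¬ (p % 10 = 1 ∨ p % 10 = 9) ∧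
        Nonempty (M ≃* alternatingGroup (Fin 4))) ∨
    (Fintype.card F = p ∧ (p % 8 = 1 ∨ p % 8 = 7) ∧ Nonempty (M ≃* Equiv.Perm (Fin 4))) := by
  classical
  have hpp : p.Prime := Fact.out
  have hp2 : p ≠ 2 := by
    rintro rfl
    obtain ⟨n, -, hn⟩ := FiniteField.card F 2
    rw [hn] at hodd
    rw [Nat.odd_pow_iff n.pos.ne'] at hodd
    exact absurd hodd (by decide)
  have h2 : (2 : F) ≠ 0 := two_ne_zero_of_char p hp2
  have h4 : 4 ≤ Fintype.card F := by omega
  have hch : ringChar F ≠ 2 := by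
    intro h5
    apply h2
    have h6 := ringChar.Nat.cast_ringChar (R := F)
    rw [h5] at h6
    exact_mod_cast h6
  have hgood : ∀ s, 3 ≤ s → Good M s → (∃ E : Subfield F, Nat.card E ^ 2 = Fintype.card F ∧ Nonempty (M ≃* Matrix.ProjGenLinGroup (Fin 2) E)) ∨
      (∃ (E : Subfield F) (r : ℕ), r.Prime ∧ Odd r ∧ Nat.card E ^ r = Fintype.card F ∧
        Nonempty (M ≃* Matrix.ProjectiveSpecialLinearGroup (Fin 2) E)) :=
    fun s hs hG => good_branch_odd h2 M hM s hs hG
  rcases coatom_cases h4 p M hM with h | ⟨x, hτ, e⟩ | ⟨⟨i⟩⟩ | ⟨⟨i⟩⟩ | ⟨⟨i⟩⟩ | ⟨S, hS4, hS⟩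
  · left
    rw [card_roots1_odd hch] at h
    rw [h, mul_comm]
  · rcases case_torus h5 h2 M hM x hτ e with h | h
    · exact Or.inr (Or.inl h)
    · exact Or.inr (Or.inr (Or.inl h))
  · rcases case_A4 p hp2 h5 M hM i with ⟨E, hE3, hG⟩ | ⟨h1, h3, h6⟩
    · rcases hgood _ hE3 hG with h | h
      · exact Or.inr (Or.inr (Or.inr (Or.inl h)))
      · exact Or.inr (Or.inr (Or.inr (Or.inr (Or.inl h))))
    · exact Or.inr (Or.inr (Or.inr (Or.inr (Or.inr (Or.inr (Or.inl ⟨h1, h3, h6, ⟨i⟩⟩))))))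
  · rcases case_S4 p hp2 M hM i with ⟨h1, h3⟩ | h
    · exact Or.inr (Or.inr (Or.inr (Or.inr (Or.inr (Or.inr (Or.inr ⟨h1, h3, ⟨i⟩⟩))))))
    · exact Or.inr (Or.inr (Or.inr (Or.inl h)))
  · by_cases hp5 : p = 5
    · subst hp5
      obtain ⟨S⟩ : Nonempty (Sylow 5 M) := inferInstance
      have hc60 : Nat.card M = 60 := by rw [Nat.card_congr i.toEquiv, card_A5]
      have hS5 : Nat.card (S : Subgroup M) = 5 := by
        rw [Sylow.card_eq_multiplicity, hc60]
        have : (60 : ℕ) = 5 ^ 1 * 12 := by norm_num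
        rw [this, Nat.factorization_mul (by norm_num) (by norm_num), Nat.Prime.factorization_pow (by norm_num)]
        have h3 : (12 : ℕ).factorization 5 = 0 := Nat.factorization_eq_zero_of_not_dvd (by norm_num)
        simp [h3]
      rcases hgood _ (by omega) (good_of_A5 5 M i S (by omega)) with h | h
      · exact Or.inr (Or.inr (Or.inr (Or.inl h)))
      · exact Or.inr (Or.inr (Or.inr (Or.inr (Or.inl h))))
    · obtain ⟨h1, h3⟩ := case_A5 p hp2 hp5 M hM i
      exact Or.inr (Or.inr (Or.inr (Or.inr (Or.inr (Or.inl ⟨h1, h3, ⟨i⟩⟩)))))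
  · rcases hgood _ (by omega) hS with h | h
    · exact Or.inr (Or.inr (Or.inr (Or.inl h)))
    · exact Or.inr (Or.inr (Or.inr (Or.inr (Or.inl h))))

end Cfsg.Agent.Lib.Classical.Dick
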