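import Mathlib
import Cfsg.Agent.Lib.Classical.Dick.Max6

/-!
`PSL₂(F)` inside `PGL₂(F)`, and subgroups invariant under a maximal subgroup of `PGL₂(F)`.
-/

set_option autoImplicit false
set_option linter.unusedSimpArgs false
set_option linter.unusedVariables false

namespace Cfsg.Agent.Lib.Classical.Dick

open Matrix
open scoped MatrixGroups
open Cfsg.Agent.Lib.KS2.SL2

variable {F : Type*} [Field F]

local notation "PP" => Matrix.ProjectiveSpecialLinearGroup (Fin 2) F
local notation "PG" => Matrix.ProjGenLinGroup (Fin 2) F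

/-- The image of `SL₂` in `PGL₂`. -/
noncomputable abbrev slG : SL(2, F) →* PG := Matrix.ProjGenLinGroup.mk.comp Matrix.SpecialLinearGroup.toGL

lemma slG_eq_one_iff (x : SL(2, F)) : slG x = 1 ↔ IsScalar x := by
  rw [MonoidHom.comp_apply, Matrix.ProjGenLinGroup.mk_eq_one, Matrix.GeneralLinearGroup.center_eq_range_scalar]
  constructor
  · rintro ⟨u, hu⟩
    have h := fun i j => congrFun (congrFun (congrArg (fun g : GL (Fin 2) F => (g : Matrix (Fin 2) (Fin 2) F)) hu) i) j
    have h00 := h 0 0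
    have h01 := h 0 1
    have h10 := h 1 0
    have h11 := h 1 1
    simp at h00 h01 h10 h11
    refine ⟨h01.symm, h10.symm, ?_⟩
    rw [← h00, ← h11]
  · rintro ⟨h01, h10, h⟩
    have hd := det_rel x
    have hne : (x : Matrix (Fin 2) (Fin 2) F) 0 0 ≠ 0 := by
      intro h0
      rw [h01, h0] at hd
      simp at hd
    refine ⟨Units.mk0 _ hne, ?_⟩
    apply Units.ext
    ext i j
    fin_cases i <;> fin_cases j <;> simp [h01, h10, h]

/-- `PSL₂` maps to `PGL₂`. -/
noncomputable def rhoP : PP →* PG :=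
  QuotientGroup.lift _ slG (by
    intro a ha
    rw [MonoidHom.mem_ker, slG_eq_one_iff]
    exact (isScalar_iff_center a).mpr ha)

lemma rhoP_pi (x : SL(2, F)) : rhoP (pi x) = slG x := rfl

lemma rhoP_injective : Function.Injective (rhoP : PP →* PG) := by
  rw [injective_iff_map_eq_one]
  intro y hy
  obtain ⟨x, rfl⟩ := pi_surj y
  rw [rhoP_pi, slG_eq_one_iff] at hy
  exact (pi_eq_one_iff x).mpr hy

lemma range_rhoP : (rhoP : PP →* PG).range = (slG : SL(2, F) →* PG).range := by
  ext g
  constructor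
  · rintro ⟨y, rfl⟩
    obtain ⟨x, rfl⟩ := pi_surj y
    exact ⟨x, rfl⟩
  · rintro ⟨x, rfl⟩
    exact ⟨pi x, rfl⟩

lemma toGL_glConj (u : GL (Fin 2) F) (x : SL(2, F)) :
    Matrix.SpecialLinearGroup.toGL (glConj u x) = u * Matrix.SpecialLinearGroup.toGL x * u⁻¹ :=
  Units.ext rfl

lemma conj_rhoP (u : GL (Fin 2) F) (y : PP) :
    Matrix.ProjGenLinGroup.mk u * rhoP y * (Matrix.ProjGenLinGroup.mk u)⁻¹ = rhoP (indP (glConj u) y) := by
  obtain ⟨x, rfl⟩ := pi_surj y
  rw [indP_pi, rhoP_pi, rhoP_pi, MonoidHom.comp_apply, MonoidHom.comp_apply, toGL_glConj, map_mul, map_mul, map_inv]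

lemma conj_symm_rhoP (u : GL (Fin 2) F) (y : PP) :
    rhoP ((indP (glConj u)).symm y) = (Matrix.ProjGenLinGroup.mk u)⁻¹ * rhoP y * Matrix.ProjGenLinGroup.mk u := by
  have h := conj_rhoP u ((indP (glConj u)).symm y)
  rw [MulEquiv.apply_symm_apply] at h
  rw [← h]
  group

lemma indP_glConj_toGL (x : SL(2, F)) :
    indP (glConj (Matrix.SpecialLinearGroup.toGL x)) = MulAut.conj (pi x : PP) := by
  ext y
  obtain ⟨z, rfl⟩ := pi_surj y
  rw [indP_pi, MulAut.conj_apply, ← map_inv, ← map_mul, ← map_mul]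
  congr 1

/-- Invariance under the elements of a subgroup of `PGL₂`. -/
def InvM (M : Subgroup PG) (K : Subgroup PP) : Prop :=
  ∀ u : GL (Fin 2) F, Matrix.ProjGenLinGroup.mk u ∈ M → K.map (indP (glConj u)).toMonoidHom = K

lemma invM_comap (M : Subgroup PG) : InvM M (M.comap (rhoP : PP →* PG)) := by
  intro u hu
  ext y
  rw [Subgroup.mem_map_equiv, Subgroup.mem_comap, Subgroup.mem_comap, conj_symm_rhoP]
  constructor
  · intro h
    have := M.mul_mem (M.mul_mem hu h) (M.inv_mem hu)
    convert this using 1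
    group
  · intro h
    exact M.mul_mem (M.mul_mem (M.inv_mem hu) h) hu

lemma InvM.normalizer {M : Subgroup PG} {K : Subgroup PP} (h : InvM M K) :
    InvM M (Subgroup.normalizer (K : Set PP)) := by
  intro u hu
  rw [Subgroup.map_equiv_normalizer_eq, h u hu]

lemma comap_le_normalizer {M : Subgroup PG} {K : Subgroup PP} (h : InvM M K) :
    M.comap (rhoP : PP →* PG) ≤ Subgroup.normalizer (K : Set PP) := by
  intro y hy
  obtain ⟨x, rfl⟩ := pi_surj y
  rw [P2.mem_norm_iff, ← indP_glConj_toGL]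
  exact h _ hy

variable [Fintype F]

/-- `PGL₂` of a finite field is finite. -/
instance finite_PGL2_field (K : Type*) [Field K] [Finite K] : Finite (Matrix.ProjGenLinGroup (Fin 2) K) :=
  Finite.of_surjective _ Matrix.ProjGenLinGroup.mk_surjective

/-- The fundamental property of maximal subgroups not containing `PSL₂`. -/
theorem comap_eq_normalizer (h4 : 4 ≤ Fintype.card F) {M : Subgroup PG} (hM : IsCoatom M) {K : Subgroup PP}
    (hK : InvM M K) (h1 : K ≠ ⊥) (h2 : K ≠ ⊤) :
    M.comap (rhoP : PP →* PG) = Subgroup.normalizer (K : Set PP) := by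
  set N := Subgroup.normalizer (K : Set PP) with hN
  have hNinv : InvM M N := hK.normalizer
  have hKN : K ≤ N := Subgroup.le_normalizer
  have hNtop : N ≠ ⊤ := normalizer_ne_top h4 K h1 h2
  set J := Subgroup.normalizer ((N.map (rhoP : PP →* PG) : Subgroup PG) : Set PG) with hJ
  have hMJ : M ≤ J := by
    intro g hg
    obtain ⟨u, rfl⟩ := Matrix.ProjGenLinGroup.mk_surjective g
    rw [hJ, P2.mem_norm_iff, Subgroup.map_map]
    have e : (MulAut.conj (Matrix.ProjGenLinGroup.mk u : PG)).toMonoidHom.comp rhoP =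
        (rhoP : PP →* PG).comp (indP (glConj u)).toMonoidHom := by
      ext y
      exact conj_rhoP u y
    rw [e, ← Subgroup.map_map, hNinv u hg]
  rcases coatom_cases_le hM hMJ with e | e
  · apply le_antisymm (comap_le_normalizer hK)
    intro y hy
    rw [Subgroup.mem_comap, e]
    exact Subgroup.le_normalizer ⟨y, hy, rfl⟩
  · exfalso
    rw [hJ, Subgroup.normalizer_eq_top_iff] at e
    have hnN : N.Normal := by
      constructor
      intro y hy g
      have h3 := e.conj_mem _ ⟨y, hy, rfl⟩ (rhoP g)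
      obtain ⟨y', hy', e'⟩ := h3
      have e2 : y' = g * y * g⁻¹ := by
        apply rhoP_injective
        rw [e', map_mul, map_mul, map_inv]
      rw [← e2]
      exact hy'
    haveI := isSimple_PP (F := F) h4
    rcases IsSimpleGroup.eq_bot_or_eq_top_of_normal N hnN with e3 | e3
    · apply h1
      rw [eq_bot_iff, ← e3]
      exact hKN
    · exact hNtop e3

omit [Fintype F] in
/-- Elements of `rhoP`'s range via membership. -/
lemma mem_range_slG_iff (g : PG) : g ∈ (slG : SL(2, F) →* PG).range ↔ ∃ y : PP, rhoP y = g := by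
  rw [← range_rhoP]
  rfl

/-- The index of `L`. -/
lemma index_range_slG (h2 : (2 : F) ≠ 0) : (slG : SL(2, F) →* PG).range.index = 2 := by
  have h3 := Subgroup.card_mul_index (slG : SL(2, F) →* PG).range
  have h5 : Nat.card (slG : SL(2, F) →* PG).range = Nat.card PP := by
    rw [← range_rhoP]
    exact Nat.card_congr (MonoidHom.ofInjective rhoP_injective).toEquiv.symm
  rw [h5, card_PGL2, ← hPP_eq h2] at h3
  have hpos : 0 < Nat.card PP := Nat.card_pos
  have : Nat.card PP * (slG : SL(2, F) →* PG).range.index = Nat.card PP * 2 := by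
    rw [h3]
    ring
  exact Nat.eq_of_mul_eq_mul_left hpos this

/-- A maximal subgroup not containing `L` is not inside `L`. -/
lemma exists_not_mem_L (h2 : (2 : F) ≠ 0) {M : Subgroup PG} (hM : IsCoatom M)
    (hML : ¬ (slG : SL(2, F) →* PG).range ≤ M) : ∃ g ∈ M, g ∉ (slG : SL(2, F) →* PG).range := by
  by_contra hcon
  push Not at hcon
  have hle : M ≤ (slG : SL(2, F) →* PG).range := hcon
  rcases coatom_cases_le hM hle with e | e
  · exact hML (by rw [e])
  · have := index_range_slG h2
    rw [e, Subgroup.index_top] at this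
    omega

/-- `M ∩ L` has index two in `M`. -/
theorem two_card_comap (h2 : (2 : F) ≠ 0) {M : Subgroup PG} (hM : IsCoatom M)
    (hML : ¬ (slG : SL(2, F) →* PG).range ≤ M) :
    Nat.card M = 2 * Nat.card (M.comap (rhoP : PP →* PG)) := by
  classical
  obtain ⟨g, hgM, hgL⟩ := exists_not_mem_L h2 hM hML
  have hidx := index_range_slG h2
  have hi : ((slG : SL(2, F) →* PG).range.subgroupOf M).index = 2 := by
    rw [Subgroup.index_eq_two_iff]
    refine ⟨⟨g, hgM⟩, ?_⟩
    intro b
    rw [Subgroup.mem_subgroupOf, Subgroup.mem_subgroupOf]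
    change Xor' ((b : PG) * g ∈ _) _
    rw [Subgroup.mul_mem_iff_of_index_two hidx]
    by_cases hb : (b : PG) ∈ (slG : SL(2, F) →* PG).range
    · right
      exact ⟨hb, fun h => hgL (h.mp hb)⟩
    · left
      refine ⟨?_, hb⟩
      constructor
      · intro h
        exact (hb h).elim
      · intro h
        exact (hgL h).elim
  have h3 := Subgroup.card_mul_index ((slG : SL(2, F) →* PG).range.subgroupOf M)
  rw [hi] at h3
  rw [← h3, mul_comm]
  congr 1
  symm
  apply Nat.card_congr
  refine Equiv.ofBijective (fun y : M.comap (rhoP : PP →* PG) =>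
    (⟨⟨rhoP y.1, y.2⟩, by
      rw [Subgroup.mem_subgroupOf]
      exact (mem_range_slG_iff _).mpr ⟨y.1, rfl⟩⟩ : (slG : SL(2, F) →* PG).range.subgroupOf M)) ⟨?_, ?_⟩
  · intro a b h
    have h5 := congrArg (fun z : (slG : SL(2, F) →* PG).range.subgroupOf M => ((z : M) : PG)) h
    exact Subtype.ext (rhoP_injective h5)
  · rintro ⟨⟨g', hg'⟩, hg''⟩
    rw [Subgroup.mem_subgroupOf] at hg''
    obtain ⟨y, rfl⟩ := (mem_range_slG_iff _).mp hg''
    exact ⟨⟨y, hg'⟩, rfl⟩

/-- A maximal subgroup is not too small. -/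
theorem not_small_coatom (hodd : Odd (Fintype.card F)) {M : Subgroup PG} (hM : IsCoatom M)
    (h : Nat.card M ∣ 4) : False := by
  classical
  haveI : Fact (Nat.Prime 2) := ⟨Nat.prime_two⟩
  have hcG := card_PGL2 F
  obtain ⟨k, hk⟩ := hodd
  have hq2 : 2 ≤ 2 * k + 1 := by
    have : 1 < Fintype.card F := Fintype.one_lt_card
    omega
  rw [hk] at hcG
  have h8 : 2 ^ 3 ∣ Nat.card PG := by
    rw [hcG]
    have e : (2 * k + 1) ^ 2 - 1 = 4 * (k * (k + 1)) := by
      have : (2 * k + 1) ^ 2 = 4 * (k * (k + 1)) + 1 := by ring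
      omega
    rw [e]
    obtain ⟨c, hc⟩ := (Nat.even_mul_succ_self k).two_dvd
    rw [hc]
    exact ⟨(2 * k + 1) * c, by ring⟩
  obtain ⟨j, -, hj⟩ : ∃ j, j ≤ 2 ∧ Nat.card M = 2 ^ j := (Nat.dvd_prime_pow Nat.prime_two).mp (by simpa using h)
  have hMP : IsPGroup 2 M := IsPGroup.of_card hj
  obtain ⟨P, hP⟩ := hMP.exists_le_sylow
  have hdvd := Sylow.pow_dvd_card_of_pow_dvd_card P h8
  rcases coatom_cases_le hM hP with e | e
  · rw [← e] at hdvd
    have := hdvd.trans h
    norm_num at this
  · have h5 : Nat.card (P : Subgroup PG) = Nat.card PG := by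
      rw [e]
      exact Nat.card_congr Subgroup.topEquiv.toEquiv
    obtain ⟨a, ha⟩ := IsPGroup.iff_card.mp P.isPGroup'
    rw [h5, hcG] at ha
    have h6 : (2 * k + 1) ∣ 2 ^ a := by
      rw [← ha]
      exact Nat.dvd_mul_right _ _
    have h7 : Nat.Coprime (2 * k + 1) (2 ^ a) := by
      apply Nat.Coprime.pow_right
      exact Nat.Coprime.symm ((Nat.Prime.coprime_iff_not_dvd Nat.prime_two).mpr (by omega))
    have h9 := Nat.Coprime.eq_one_of_dvd h7 h6
    omega

end Cfsg.Agent.Lib.Classical.Dick
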